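import Mathlib
import Groth.Agent.Lib.Helper24.HomogSep.Transl
import Groth.Agent.Lib.Helper24.HomogSep.BaseChange
import Groth.Agent.Lib.Helper24.Homog.KPoints

/-!
# Homogeneity: a property of a homomorphism of group schemes over an algebraically closed field
that holds on a nonempty open holds everywhere
-/

set_option autoImplicit false
universe u

open CategoryTheory MonoidalCategory CartesianMonoidalCategory MonObj GrpObj AlgebraicGeometry Limits

namespace Groth.Agent.Lib.Helper24.FibHom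

open Groth.Agent.Lib.Helper24.HomogSep
open Groth.Agent.Lib.Helper4.ActShear Groth.Agent.Lib.Helper4.ActShear2

variable (P : MorphismProperty Scheme.{u})

/-- `P` on an open is transported by compatible automorphisms -/
theorem translate [P.RespectsIso] {Y Z : Scheme.{u}} (f : Y ⟶ Z) (l : Y ≅ Y) (τ : Z ≅ Z)
    (h : l.hom ≫ f = f ≫ τ.hom) (V : Y.Opens) (hV : P (V.ι ≫ f)) :
    P ((l.inv ⁻¹ᵁ V).ι ≫ f) := by
  have h1 : (l.inv ⁻¹ᵁ V).ι ≫ f = (l.inv ∣_ V) ≫ (V.ι ≫ f) ≫ τ.hom := by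
    rw [Category.assoc, ← h, ← Category.assoc V.ι, ← Category.assoc (l.inv ∣_ V),
      ← Category.assoc (l.inv ∣_ V), morphismRestrict_ι, Category.assoc, Category.assoc,
      Iso.inv_hom_id_assoc]
  rw [h1, P.cancel_left_of_respectsIso, P.cancel_right_of_respectsIso]
  exact hV

variable {K : Type u} [Field K] [IsAlgClosed K]

/-- **Homogeneity.** -/
theorem of_homogeneous [IsZariskiLocalAtSource P] {Y Z : Scheme.{u}} (f : Y ⟶ Z)
    (pY : Y ⟶ Spec (CommRingCat.of K)) [LocallyOfFiniteType pY]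
    (V₀ : Y.Opens) (hV₀ne : (V₀ : Set Y).Nonempty) (hV₀ : P (V₀.ι ≫ f))
    (htrans : ∀ c c' : Spec (CommRingCat.of K) ⟶ Y, c ≫ pY = 𝟙 _ → c' ≫ pY = 𝟙 _ →
      ∃ (l : Y ≅ Y) (τ : Z ≅ Z), l.hom ≫ f = f ≫ τ.hom ∧ c ≫ l.hom = c') : P f := by
  have hid : Spec.map (CommRingCat.ofHom (algebraMap K K)) = 𝟙 (Spec (CommRingCat.of K)) := by
    change Spec.map (CommRingCat.ofHom (RingHom.id K)) = 𝟙 _
    exact Spec.map_id _
  obtain ⟨c₀, hc₀, hc₀V⟩ := Homog.exists_Kpoint_mem_open (k := K) (K := K) pY V₀ hV₀ne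
  rw [hid] at hc₀
  have key : ∀ y : Y, ∃ V : Y.Opens, y ∈ V ∧ P (V.ι ≫ f) := by
    by_contra hcon
    push Not at hcon
    let F : Y.Opens := ⨆ V : {V : Y.Opens // P (V.ι ≫ f)}, V.1
    have hF : ((F : Set Y)ᶜ).Nonempty := by
      obtain ⟨y, hy⟩ := hcon
      refine ⟨y, fun hyF => ?_⟩
      obtain ⟨V, hyV⟩ := TopologicalSpace.Opens.mem_iSup.1 hyF
      exact hy V.1 hyV V.2
    obtain ⟨c', hc', hc'F⟩ := Homog.exists_Kpoint_mem_closed (k := K) (K := K) pY _
      F.2.isClosed_compl hF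
    rw [hid] at hc'
    obtain ⟨l, τ, hlτ, hl⟩ := htrans c₀ c' hc₀ hc'
    let t : ↥(Spec (CommRingCat.of K)) := IsLocalRing.closedPoint K
    apply hc'F t
    refine TopologicalSpace.Opens.mem_iSup.2 ⟨⟨l.inv ⁻¹ᵁ V₀, translate P f l τ hlτ V₀ hV₀⟩, ?_⟩
    change l.inv.base (c'.base t) ∈ V₀
    rw [← hl, Scheme.Hom.comp_base, TopCat.comp_app, ← Scheme.Hom.comp_apply, Iso.hom_inv_id]
    exact hc₀V t
  choose V hyV hVf using key
  rw [IsZariskiLocalAtSource.iff_of_iSup_eq_top (P := P) V]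
  · exact hVf
  · rw [eq_top_iff]
    intro y _
    exact TopologicalSpace.Opens.mem_iSup.2 ⟨y, hyV y⟩

/-- a homomorphism intertwines the left translations -/
theorem tr_hom {S : Scheme.{u}} {G H : Over S} [GrpObj G] [GrpObj H] (u : G ⟶ H) [IsMonHom u]
    (g : 𝟙_ (Over S) ⟶ G) :
    tr (selfAct G) g ≫ u = u ≫ tr (selfAct H) (g ≫ u) := by
  have h1 : tr (selfAct G) g = lift (toUnit G ≫ g) (𝟙 G) ≫ μ[G] := rfl
  have h2 : tr (selfAct H) (g ≫ u) = lift (toUnit H ≫ g ≫ u) (𝟙 H) ≫ μ[H] := rfl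
  rw [h1, h2, Category.assoc, IsMonHom.mul_hom, ← Category.assoc, ← Category.assoc u,
    comp_lift, lift_map]
  congr 2
  rw [← Category.assoc u, toUnit_unique (u ≫ toUnit H) (toUnit G), Category.assoc]

/-- **Homogeneity for homomorphisms over an algebraically closed field.** -/
theorem hom_of_open_algClosed [IsZariskiLocalAtSource P] (G H : Over (Spec (CommRingCat.of K)))
    [GrpObj G] [GrpObj H] [LocallyOfFiniteType G.hom] (u : G ⟶ H) [IsMonHom u]
    (W : G.left.Opens) (hW : (W : Set G.left).Nonempty) (h : P (W.ι ≫ u.left)) : P u.left := by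
  refine of_homogeneous P u.left G.hom W hW h ?_
  intro c c' hc hc'
  let gc : 𝟙_ (Over (Spec (CommRingCat.of K))) ⟶ G := Over.homMk c (by exact hc)
  let gc' : 𝟙_ (Over (Spec (CommRingCat.of K))) ⟶ G := Over.homMk c' (by exact hc')
  let g : 𝟙_ (Over (Spec (CommRingCat.of K))) ⟶ G := gc' * gc⁻¹
  let L : G.left ≅ G.left := (Over.forget _).mapIso (trIso (selfAct G) g)
  let τ : H.left ≅ H.left := (Over.forget _).mapIso (trIso (selfAct H) (g ≫ u))
  refine ⟨L, τ, ?_, ?_⟩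
  · change (tr (selfAct G) g).left ≫ u.left = u.left ≫ (tr (selfAct H) (g ≫ u)).left
    rw [← Over.comp_left, ← Over.comp_left, tr_hom]
  · change c ≫ (tr (selfAct G) g).left = c'
    have h1 : gc ≫ tr (selfAct G) g = gc' := by
      rw [point_tr]
      change gc' * gc⁻¹ * gc = gc'
      rw [inv_mul_cancel_right]
    have h2 := congrArg (fun m => m.left) h1
    simpa [gc, gc'] using h2

end Groth.Agent.Lib.Helper24.FibHom
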