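import Mathlib
import Groth.Agent.Lib.Helper24.FibHom.Homog
import Groth.Agent.Lib.Helper24.NFT.Field

/-!
# Homogeneity over an arbitrary field: base change to an algebraic closure and descent
-/

set_option autoImplicit false
universe u

open CategoryTheory MonoidalCategory CartesianMonoidalCategory MonObj GrpObj AlgebraicGeometry Limits

namespace Groth.Agent.Lib.Helper24.FibHom

open Groth.Agent.Lib.Helper24.HomogSep Groth.Agent.Lib.Helper24.NFT

variable (P : MorphismProperty Scheme.{u})

/-- restriction of a cartesian square to an open of the lower-right source -/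
theorem isPullback_restrict {A X Y Z : Scheme.{u}} {f' : A ⟶ X} {g' : A ⟶ Y} {g : X ⟶ Z}
    {f : Y ⟶ Z} (sq : IsPullback f' g' g f) (W : X.Opens) :
    IsPullback (f' ∣_ W) ((f' ⁻¹ᵁ W).ι ≫ g') (W.ι ≫ g) f :=
  (isPullback_morphismRestrict f' W).paste_vert sq

variable {k : Type u} [Field k]

/-- **Homogeneity for homomorphisms over a field.** -/
theorem hom_of_open_field [IsZariskiLocalAtSource P] [P.IsStableUnderBaseChange]
    [P.DescendsAlong (@Surjective ⊓ @Flat ⊓ @QuasiCompact)]
    (G H : Over (Spec (CommRingCat.of k)))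
    [GrpObj G] [GrpObj H] [LocallyOfFiniteType G.hom] (u : G ⟶ H) [IsMonHom u]
    (W : G.left.Opens) (hW : (W : Set G.left).Nonempty) (h : P (W.ι ≫ u.left)) : P u.left := by
  let K : Type u := AlgebraicClosure k
  let g : Spec (CommRingCat.of K) ⟶ Spec (CommRingCat.of k) :=
    Spec.map (CommRingCat.ofHom (algebraMap k K))
  let G' : Over (Spec (CommRingCat.of K)) := Red.bc g G
  let H' : Over (Spec (CommRingCat.of K)) := Red.bc g H
  let u' : G' ⟶ H' := (Over.pullback g).map u
  haveI : IsMonHom u' := inferInstance
  have sq : IsPullback u'.left (pullback.fst G.hom g) (pullback.fst H.hom g) u.left :=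
    isPullback_pullback_map g u
  haveI : LocallyOfFiniteType G'.hom :=
    inferInstanceAs (LocallyOfFiniteType (pullback.snd G.hom g))
  haveI : Nonempty ↥(Spec (CommRingCat.of K)) := inferInstanceAs (Nonempty (PrimeSpectrum K))
  haveI : Surjective g := surjective_of_nonempty g
  haveI : Flat g := inferInstance
  let p : G'.left ⟶ G.left := pullback.fst G.hom g
  haveI : Surjective p := inferInstanceAs (Surjective (pullback.fst G.hom g))
  let W' : G'.left.Opens := p ⁻¹ᵁ W
  have hW' : (W' : Set G'.left).Nonempty := by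
    obtain ⟨w, hw⟩ := hW
    obtain ⟨w', rfl⟩ := p.surjective w
    exact ⟨w', hw⟩
  have sqW : IsPullback (p ∣_ W) (W'.ι ≫ u'.left) (W.ι ≫ u.left) (pullback.fst H.hom g) :=
    isPullback_restrict sq.flip W
  have h' : P (W'.ι ≫ u'.left) := MorphismProperty.of_isPullback (P := P) sqW h
  have h1 : P u'.left := hom_of_open_algClosed P G' H' u' W' hW' h'
  refine MorphismProperty.of_isPullback_of_descendsAlong (P := P)
    (Q := @Surjective ⊓ @Flat ⊓ @QuasiCompact) sq ⟨⟨?_, ?_⟩, ?_⟩ h1
  · exact (inferInstance : Surjective (pullback.fst H.hom g))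
  · exact (inferInstance : Flat (pullback.fst H.hom g))
  · exact (inferInstance : QuasiCompact (pullback.fst H.hom g))

end Groth.Agent.Lib.Helper24.FibHom
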