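import Mathlib
import Groth.Agent.Lib.Helper24.NFT.Neutral
import Groth.Agent.Lib.Helper24.NFT.NeutralBC
import Groth.Agent.Lib.Helper21.FlatDescK

/-!
# The set of points of the base over which a homomorphism is flat (SGA3 VI_B 2.5)
-/

set_option autoImplicit false
universe u

open CategoryTheory MonoidalCategory CartesianMonoidalCategory MonObj GrpObj AlgebraicGeometry Limits

namespace Groth.Agent.Lib.Helper24.FibHom

open Groth.Agent.Lib.Helper24.NFT Groth.Agent.Lib.Helper24.PtFlat

variable {S : Scheme.{u}} {G H : Over S}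

/-- the identification of the fibre of `G` computed through `u ≫ H.hom` -/
noncomputable def fibIso (u : G ⟶ H) (s : S) : (u.left ≫ H.hom).fiber s ≅ pullback G.hom (gs s) :=
  pullback.congrHom (Over.w u) rfl

/-- the Prelude's fibre map is the base change of `u` to the fibre -/
theorem fiberMap_eq (u : G ⟶ H) (s : S) :
    MoreMor.fiberMap u.left H.hom s = (fibIso u s).hom ≫ ((Over.pullback (gs s)).map u).left := by
  let us : fib G s ⟶ fib H s := (Over.pullback (gs s)).map u
  apply pullback.hom_ext
  · unfold MoreMor.fiberMap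
    rw [pullback.lift_fst, Category.assoc]
    have h1 : us.left ≫ pullback.fst H.hom (gs s) = pullback.fst G.hom (gs s) ≫ u.left :=
      ActBC.pullback_map_left_fst (gs s) u
    rw [h1, ← Category.assoc]
    congr 1
    exact ((pullback.lift_fst _ _ _).trans (Category.comp_id _)).symm
  · unfold MoreMor.fiberMap
    rw [pullback.lift_snd, Category.assoc]
    have h2 : us.left ≫ pullback.snd H.hom (gs s) = pullback.snd G.hom (gs s) :=
      Over.w us
    rw [h2]
    exact ((pullback.lift_snd _ _ _).trans (Category.comp_id _)).symm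

variable [GrpObj G] [GrpObj H]

/-- **fibrewise criterion for homomorphisms**: `u` is flat at `x` iff `u_s` is flat, `s` the image
of `x` in the base -/
theorem flat_stalkMap_iff_flat_fib [Flat G.hom] [LocallyOfFinitePresentation G.hom]
    [LocallyOfFiniteType H.hom] (u : G ⟶ H) [IsMonHom u] (x : G.left) :
    (u.left.stalkMap x).hom.Flat ↔
      Flat ((Over.pullback (gs (H.hom.base (u.left.base x)))).map u).left := by
  haveI : LocallyOfFinitePresentation (u.left ≫ H.hom) := by rw [Over.w u]; infer_instance
  haveI : Flat (u.left ≫ H.hom) := by rw [Over.w u]; infer_instance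
  have hcrit := Groth.Agent.S1386.pointwise u.left H.hom x
  have hA : ((u.left ≫ H.hom).stalkMap x).hom.Flat :=
    (Flat.iff_flat_stalkMap (u.left ≫ H.hom)).1 inferInstance x
  constructor
  · intro hD
    have hC : (H.hom.stalkMap (u.left.base x)).hom.Flat :=
      flat_stalkMap_of_comp u.left H.hom x hD hA
    have hB := (hcrit.2 ⟨hC, hD⟩).2
    set s : S := H.hom.base (u.left.base x) with hs
    let us : fib G s ⟶ fib H s := (Over.pullback (gs s)).map u
    let p : ↥((u.left ≫ H.hom).fiber s) := (u.left ≫ H.hom).asFiber x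
    have hB' : (((fibIso u s).hom ≫ us.left).stalkMap p).hom.Flat :=
      flat_stalkMap_of_eq (fiberMap_eq u s).symm p hB
    have hiso : ((fibIso u s).hom.stalkMap p).hom.Flat :=
      (Flat.iff_flat_stalkMap (fibIso u s).hom).1 inferInstance p
    have h1 := flat_stalkMap_of_comp (fibIso u s).hom us.left p hiso hB'
    haveI : Flat (fib G s).hom := inferInstanceAs (Flat (pullback.snd G.hom (gs s)))
    exact flat_hom_of_flat_at_point us _ h1
  · intro h
    have hfib : Flat (MoreMor.fiberMap u.left H.hom (H.hom.base (u.left.base x))) :=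
      flat_fiberMap u _ h
    exact (hcrit.1 ⟨hA, (Flat.iff_flat_stalkMap _).1 hfib _⟩).2

/-- **SGA3 VI_B 2.5 (flat case)** -/
theorem isOpen_setOf_flat_fib [Flat G.hom] [LocallyOfFinitePresentation G.hom]
    [LocallyOfFiniteType H.hom] (u : G ⟶ H) [IsMonHom u] :
    IsOpen {s : S | Flat ((Over.pullback (S.fromSpecResidueField s)).map u).left} ∧
    {x : G.left | (u.left.stalkMap x).hom.Flat} =
      G.hom.base ⁻¹' {s : S | Flat ((Over.pullback (S.fromSpecResidueField s)).map u).left} := by
  have hpt : ∀ x : G.left, H.hom.base (u.left.base x) = G.hom.base x := fun x => by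
    rw [← Scheme.Hom.comp_apply, Over.w u]
  have h2 : {x : G.left | (u.left.stalkMap x).hom.Flat} =
      G.hom.base ⁻¹' {s : S | Flat ((Over.pullback (S.fromSpecResidueField s)).map u).left} := by
    ext x
    rw [Set.mem_setOf_eq, flat_stalkMap_iff_flat_fib u x, Set.mem_preimage, Set.mem_setOf_eq,
      hpt x]
  refine ⟨?_, h2⟩
  haveI : LocallyOfFinitePresentation u.left :=
    Groth.Agent.Lib.Helper4.CentralizerClosed.lfp_of_comp u.left H.hom
      (by rw [Over.w u]; infer_instance) inferInstance
  have hopen := Groth.Agent.Lib.Helper21.FlatDesc.isOpen_flat_locus u.left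
  have heq : {s : S | Flat ((Over.pullback (S.fromSpecResidueField s)).map u).left} =
      (unitSec G).base ⁻¹' {x : G.left | (u.left.stalkMap x).hom.Flat} := by
    rw [h2]
    ext s
    rw [Set.mem_preimage, Set.mem_preimage, ← Scheme.Hom.comp_apply, unitSec_hom]
    rfl
  rw [heq]
  exact hopen.preimage (unitSec G).continuous

end Groth.Agent.Lib.Helper24.FibHom
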