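import Mathlib
import Groth.Agent.Lib.Helper24.FibHom.Field
import Groth.Agent.Lib.Helper24.FibHom.Flat

/-!
# SGA3 VI_B 2.5: the locus of the base over which a homomorphism has a property `P`
-/

set_option autoImplicit false
universe u

open CategoryTheory MonoidalCategory CartesianMonoidalCategory MonObj GrpObj AlgebraicGeometry Limits

namespace Groth.Agent.Lib.Helper24.FibHom

open Groth.Agent.Lib.Helper24.HomogSep Groth.Agent.Lib.Helper24.NFT

variable (P : MorphismProperty Scheme.{u})

instance {K L : Type u} [Field K] [Field L] (φ : CommRingCat.of K ⟶ CommRingCat.of L) :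
    Surjective (Spec.map φ) := by
  haveI : Nonempty ↥(Spec (CommRingCat.of L)) := inferInstanceAs (Nonempty (PrimeSpectrum L))
  exact surjective_of_nonempty _

variable {S : Scheme.{u}} {G H : Over S} [GrpObj G] [GrpObj H]

/-- **SGA3 VI_B 2.5, general form.** -/
theorem main [IsZariskiLocalAtSource P] [P.IsStableUnderBaseChange]
    [P.DescendsAlong (@Surjective ⊓ @Flat ⊓ @QuasiCompact)]
    (u : G ⟶ H) [IsMonHom u]
    (hG : ∀ s : S, LocallyOfFiniteType (G.hom.fiberToSpecResidueField s))
    (hFC : ∀ s : S, P ((Over.pullback (S.fromSpecResidueField s)).map u).left →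
      ∀ x : G.left, G.hom.base x = s → P (u.left.fiberToSpecResidueField (u.left.base x)) →
        ∃ W : G.left.Opens, x ∈ W ∧ P (W.ι ≫ u.left)) :
    IsOpen {s : S | P ((Over.pullback (S.fromSpecResidueField s)).map u).left} ∧
    {x : G.left | ∃ W : G.left.Opens, x ∈ W ∧ P (W.ι ≫ u.left)} =
      G.hom.base ⁻¹' {s : S | P ((Over.pullback (S.fromSpecResidueField s)).map u).left} := by
  have h2 : {x : G.left | ∃ W : G.left.Opens, x ∈ W ∧ P (W.ι ≫ u.left)} =
      G.hom.base ⁻¹' {s : S | P ((Over.pullback (S.fromSpecResidueField s)).map u).left} := by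
    ext x
    rw [Set.mem_setOf_eq, Set.mem_preimage, Set.mem_setOf_eq]
    set s : S := G.hom.base x with hs
    let us : fib G s ⟶ fib H s := (Over.pullback (gs s)).map u
    have sq : IsPullback us.left (pullback.fst G.hom (gs s)) (pullback.fst H.hom (gs s)) u.left :=
      isPullback_pullback_map (gs s) u
    let o : ↥(Spec (CommRingCat.of (resκ s))) := IsLocalRing.closedPoint (resκ s)
    have hgo : (gs s).base o = s := Scheme.fromSpecResidueField_apply _ _
    constructor
    · rintro ⟨W, hxW, hW⟩
      obtain ⟨x', hx'1, -⟩ :=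
        Scheme.Pullback.exists_preimage_pullback (f := G.hom) (g := gs s) x o (hs.symm.trans hgo.symm)
      let p : (fib G s).left ⟶ G.left := pullback.fst G.hom (gs s)
      let W' : (fib G s).left.Opens := p ⁻¹ᵁ W
      have hW' : (W' : Set (fib G s).left).Nonempty := ⟨x', by
        change p.base x' ∈ W
        rw [hx'1]; exact hxW⟩
      have sqW : IsPullback (p ∣_ W) (W'.ι ≫ us.left) (W.ι ≫ u.left)
          (pullback.fst H.hom (gs s)) := isPullback_restrict sq.flip W
      have h' : P (W'.ι ≫ us.left) := MorphismProperty.of_isPullback (P := P) sqW hW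
      haveI : LocallyOfFiniteType (fib G s).hom := hG s
      exact hom_of_open_field P (fib G s) (fib H s) us W' hW' h'
    · intro hus
      have hHx : H.hom.base (u.left.base x) = s := by
        rw [← Scheme.Hom.comp_apply, Over.w u]
      obtain ⟨y', hy'1, -⟩ :=
        Scheme.Pullback.exists_preimage_pullback (f := H.hom) (g := gs s) (u.left.base x) o
          (hHx.trans hgo.symm)
      have hfib' : P (us.left.fiberToSpecResidueField y') :=
        P.pullback_snd _ _ hus
      have sqf := isPullback_fiberToSpecResidueField_of_isPullback sq.flip y'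
      have hfib : P (u.left.fiberToSpecResidueField ((pullback.fst H.hom (gs s)).base y')) := by
        refine MorphismProperty.of_isPullback_of_descendsAlong (P := P)
          (Q := @Surjective ⊓ @Flat ⊓ @QuasiCompact) sqf.flip ⟨⟨?_, ?_⟩, ?_⟩ hfib'
        · infer_instance
        · infer_instance
        · infer_instance
      rw [hy'1] at hfib
      exact hFC s hus x rfl hfib
  refine ⟨?_, h2⟩
  have hopen : IsOpen {x : G.left | ∃ W : G.left.Opens, x ∈ W ∧ P (W.ι ≫ u.left)} := by
    rw [isOpen_iff_forall_mem_open]
    rintro x ⟨W, hxW, hW⟩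
    exact ⟨W, fun z hz => ⟨W, hz, hW⟩, W.2, hxW⟩
  have heq : {s : S | P ((Over.pullback (S.fromSpecResidueField s)).map u).left} =
      (unitSec G).base ⁻¹' {x : G.left | ∃ W : G.left.Opens, x ∈ W ∧ P (W.ι ≫ u.left)} := by
    rw [h2]
    ext s
    rw [Set.mem_preimage, Set.mem_preimage, ← Scheme.Hom.comp_apply, unitSec_hom]
    rfl
  rw [heq]
  exact hopen.preimage (unitSec G).continuous

end Groth.Agent.Lib.Helper24.FibHom
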