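import Mathlib

/-!
# Fibrewise criteria at a point: reduction to the affine case
-/

set_option autoImplicit false
universe u

open CategoryTheory AlgebraicGeometry Limits TensorProduct

namespace Groth.Agent.Lib.Helper24.FibHom

variable (P Q : MorphismProperty Scheme.{u})

/-- `P` holds for `f` on some open neighbourhood of `x` (open immersion form) -/
def FCo {X Y : Scheme.{u}} (f : X ⟶ Y) (x : X) : Prop :=
  ∃ (U : Scheme.{u}) (j : U ⟶ X), IsOpenImmersion j ∧ x ∈ Set.range j ∧ P (j ≫ f)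

theorem fco_iff [P.RespectsIso] {X Y : Scheme.{u}} (f : X ⟶ Y) (x : X) :
    FCo P f x ↔ ∃ W : X.Opens, x ∈ W ∧ P (W.ι ≫ f) := by
  constructor
  · rintro ⟨U, j, hj, hx, h⟩
    refine ⟨j.opensRange, hx, ?_⟩
    rw [← P.cancel_left_of_respectsIso j.isoOpensRange.hom, ← Category.assoc,
      Scheme.Hom.isoOpensRange_hom_ι]
    exact h
  · rintro ⟨W, hx, h⟩
    refine ⟨W, W.ι, inferInstance, ?_, h⟩
    rw [Scheme.Opens.range_ι]
    exact hx

variable {P} in
theorem fco_of_source {X' X Y : Scheme.{u}} (i : X' ⟶ X) [IsOpenImmersion i] (f : X ⟶ Y)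
    (x' : X') (h : FCo P (i ≫ f) x') : FCo P f (i x') := by
  obtain ⟨U, j, hj, ⟨z, hz⟩, h⟩ := h
  refine ⟨U, j ≫ i, inferInstance, ⟨z, ?_⟩, ?_⟩
  · rw [Scheme.Hom.comp_apply, hz]
  · rw [Category.assoc]; exact h

variable {P} in
theorem fco_of_target [P.IsStableUnderComposition]
    (hopen : ∀ {X Y : Scheme.{u}} (g : X ⟶ Y) [IsOpenImmersion g], P g) {X Y Y' : Scheme.{u}}
    (f : X ⟶ Y) (g : Y' ⟶ Y) [IsOpenImmersion g] (x' : ↥(pullback f g))
    (h : FCo P (pullback.snd f g) x') : FCo P f (pullback.fst f g x') := by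
  obtain ⟨U, j, hj, ⟨z, hz⟩, h⟩ := h
  refine ⟨U, j ≫ pullback.fst f g, inferInstance, ⟨z, ?_⟩, ?_⟩
  · rw [Scheme.Hom.comp_apply, hz]
  · rw [Category.assoc, pullback.condition, ← Category.assoc]
    exact P.comp_mem _ _ h (hopen g)

variable {P} in
theorem fibre_of_source [IsZariskiLocalAtSource P] {X' X Y : Scheme.{u}} (i : X' ⟶ X)
    [IsOpenImmersion i] (f : X ⟶ Y) (y : Y) (h : P (f.fiberToSpecResidueField y)) :
    P ((i ≫ f).fiberToSpecResidueField y) := by
  rw [Scheme.Hom.fiberToSpecResidueField, ← pullbackRightPullbackFstIso_inv_snd_snd]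
  haveI : IsOpenImmersion (pullback.snd i (pullback.fst f (Y.fromSpecResidueField y))) :=
    MorphismProperty.pullback_snd (P := @IsOpenImmersion) _ _ inferInstance
  have h1 : P (pullback.snd i (pullback.fst f (Y.fromSpecResidueField y)) ≫
      pullback.snd f (Y.fromSpecResidueField y)) := by
    have h0 : P (pullback.snd f (Y.fromSpecResidueField y)) := h
    exact IsZariskiLocalAtSource.comp h0 _
  exact (P.cancel_left_of_respectsIso
    (pullbackRightPullbackFstIso f (Y.fromSpecResidueField y) i).symm.hom _).2 h1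

variable {P} in
theorem fibre_of_target [P.IsStableUnderBaseChange] {X Y Y' : Scheme.{u}} (f : X ⟶ Y)
    (g : Y' ⟶ Y) (y' : Y') (h : P (f.fiberToSpecResidueField (g y'))) :
    P ((pullback.snd f g).fiberToSpecResidueField y') :=
  P.of_isPullback
    (isPullback_fiberToSpecResidueField_of_isPullback (IsPullback.of_hasPullback f g) y') h

/-- **Reduction to the affine case.** -/
theorem fco_of_affine [IsZariskiLocalAtSource P] [P.IsStableUnderBaseChange]
    [P.IsStableUnderComposition]
    (hopen : ∀ {X Y : Scheme.{u}} (g : X ⟶ Y) [IsOpenImmersion g], P g)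
    [IsZariskiLocalAtSource Q] [Q.IsStableUnderBaseChange]
    (haff : ∀ {R A : CommRingCat.{u}} (φ : R ⟶ A) (q : ↥(Spec A)) (p : ↥(Spec R)),
      Spec.map φ q = p → Q (Spec.map φ) → P ((Spec.map φ).fiberToSpecResidueField p) →
        FCo P (Spec.map φ) q)
    {X Y : Scheme.{u}} (f : X ⟶ Y) (x : X) (y : Y) (hy : f x = y) (hQ : Q f)
    (h : P (f.fiberToSpecResidueField y)) : FCo P f x := by
  obtain ⟨i₀, y', hy'⟩ : ∃ i₀, ∃ y' : ↥(Y.affineCover.X i₀), Y.affineCover.f i₀ y' = y :=
    ⟨_, Y.affineCover.covers y⟩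
  subst hy'
  set g := Y.affineCover.f i₀ with hg
  obtain ⟨x', hx'1, hx'2⟩ := Scheme.Pullback.exists_preimage_pullback (f := f) (g := g) x y' hy
  have h' : P ((pullback.snd f g).fiberToSpecResidueField y') := fibre_of_target f g y' h
  obtain ⟨j₀, x'', hx''⟩ : ∃ j₀, ∃ x'' : ↥((pullback f g).affineCover.X j₀),
      (pullback f g).affineCover.f j₀ x'' = x' := ⟨_, (pullback f g).affineCover.covers x'⟩
  set i := (pullback f g).affineCover.f j₀ with hi
  have hQ' : Q (i ≫ pullback.snd f g) :=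
    IsZariskiLocalAtSource.comp (Q.pullback_snd f g hQ) i
  have h'' : P ((i ≫ pullback.snd f g).fiberToSpecResidueField y') :=
    fibre_of_source i (pullback.snd f g) y' h'
  have hpt : (i ≫ pullback.snd f g) x'' = y' := by
    rw [Scheme.Hom.comp_apply, hx'', hx'2]
  have key : FCo P (i ≫ pullback.snd f g) x'' := by
    have e : Spec.map (Spec.preimage (i ≫ pullback.snd f g)) = i ≫ pullback.snd f g :=
      Spec.map_preimage _
    have := haff (Spec.preimage (i ≫ pullback.snd f g)) x'' y' (by rw [e]; exact hpt)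
      (by rw [e]; exact hQ') (by rw [e]; exact h'')
    rwa [e] at this
  have h2 := fco_of_source i (pullback.snd f g) x'' key
  rw [hx''] at h2
  have h3 := fco_of_target hopen f g x' h2
  rwa [hx'1] at h3

end Groth.Agent.Lib.Helper24.FibHom
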