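import Mathlib
import Groth.Agent.Lib.Helper24.FibHom.FibreCrit

/-!
# Fibrewise criterion for smooth morphisms at a point
-/

set_option autoImplicit false
universe u

open CategoryTheory AlgebraicGeometry Limits TensorProduct

namespace Groth.Agent.Lib.Helper24.FibHom

/-- flat and locally of finite presentation -/
def FlatLfp : MorphismProperty Scheme.{u} :=
  fun _ _ f => Flat f ∧ LocallyOfFinitePresentation f

instance : FlatLfp.{u}.RespectsIso :=
  MorphismProperty.RespectsIso.mk _
    (fun e f hf => ⟨(MorphismProperty.cancel_left_of_respectsIso @Flat e.hom f).2 hf.1,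
      (MorphismProperty.cancel_left_of_respectsIso @LocallyOfFinitePresentation e.hom f).2 hf.2⟩)
    (fun e f hf => ⟨(MorphismProperty.cancel_right_of_respectsIso @Flat f e.hom).2 hf.1,
      (MorphismProperty.cancel_right_of_respectsIso @LocallyOfFinitePresentation f e.hom).2 hf.2⟩)

instance : IsZariskiLocalAtSource FlatLfp.{u} :=
  IsZariskiLocalAtSource.mk'
    (fun _ _ hf => ⟨IsZariskiLocalAtSource.comp hf.1 _, IsZariskiLocalAtSource.comp hf.2 _⟩)
    (fun _ _ U hU h => ⟨IsZariskiLocalAtSource.of_iSup_eq_top U hU fun i => (h i).1,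
      IsZariskiLocalAtSource.of_iSup_eq_top U hU fun i => (h i).2⟩)

instance : FlatLfp.{u}.IsStableUnderBaseChange where
  of_isPullback sq h :=
    ⟨MorphismProperty.of_isPullback (P := @Flat) sq h.1,
      MorphismProperty.of_isPullback (P := @LocallyOfFinitePresentation) sq h.2⟩

set_option backward.isDefEq.respectTransparency false in
theorem fco_smooth_affine {R A : CommRingCat.{u}} (φ : R ⟶ A) (q : ↥(Spec A)) (p : ↥(Spec R))
    (hp : Spec.map φ q = p) (hQ : FlatLfp (Spec.map φ))
    (h : Smooth ((Spec.map φ).fiberToSpecResidueField p)) :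
    FCo @Smooth (Spec.map φ) q := by
  obtain ⟨hflat, hfp⟩ := hQ
  rw [HasRingHomProperty.Spec_iff (P := @Flat)] at hflat
  rw [HasRingHomProperty.Spec_iff (P := @LocallyOfFinitePresentation)] at hfp
  algebraize [φ.hom]
  have hfib : Algebra.FormallySmooth p.asIdeal.ResidueField (p.asIdeal.Fiber A) := by
    rw [← RingHom.formallySmooth_algebraMap]
    refine RingHom.Smooth.formallySmooth ?_
    rw [← CommRingCat.hom_ofHom (algebraMap p.asIdeal.ResidueField (p.asIdeal.Fiber ↑A)),
      ← HasRingHomProperty.Spec_iff (P := @Smooth),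
      ← MorphismProperty.arrow_mk_iso_iff (P := @Smooth)
        (Spec.fiberToSpecResidueFieldIso R A p)]
    exact h
  haveI : q.asIdeal.LiesOver p.asIdeal := ⟨by rw [← hp]; rfl⟩
  have hq : Algebra.IsSmoothAt R q.asIdeal :=
    Algebra.IsSmoothAt.of_formallySmooth_fiber p.asIdeal q.asIdeal
  obtain ⟨r, hr, hsm⟩ := Algebra.IsSmoothAt.exists_notMem_smooth R q.asIdeal
  refine ⟨Spec (CommRingCat.of (Localization.Away r)),
    Spec.map (CommRingCat.ofHom (algebraMap A (Localization.Away r))), inferInstance, ?_, ?_⟩
  · have hrange := PrimeSpectrum.localization_away_comap_range (Localization.Away r) r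
    have hmem : q ∈ (PrimeSpectrum.basicOpen r : Set (PrimeSpectrum A)) := hr
    rw [← hrange] at hmem
    exact hmem
  · rw [← Spec.map_comp, HasRingHomProperty.Spec_iff (P := @Smooth)]
    have : (φ ≫ CommRingCat.ofHom (algebraMap A (Localization.Away r))).hom =
        algebraMap R (Localization.Away r) := by
      ext x
      simp [IsScalarTower.algebraMap_apply R A (Localization.Away r), RingHom.algebraMap_toAlgebra]
    rw [this, RingHom.smooth_algebraMap]
    exact hsm

end Groth.Agent.Lib.Helper24.FibHom
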