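import Mathlib
import Groth.Agent.Lib.Helper24.FibHom.FibreCrit

/-!
# Fibrewise criterion for unramified morphisms at a point
-/

set_option autoImplicit false
universe u

open CategoryTheory AlgebraicGeometry Limits TensorProduct

namespace Groth.Agent.Lib.Helper24.FibHom

section algebra

variable {R A : Type u} [CommRing R] [CommRing A] [Algebra R A]

/-- if the base change of an `A`-module `M` to the residue field of `p` vanishes, so does the base
change to the residue field of any prime above `p` -/
theorem subsingleton_residueField_tensor {M : Type*} [AddCommGroup M] [Module A M] [Module R M]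
    [IsScalarTower R A M] (p : Ideal R) [p.IsPrime] (q : Ideal A) [q.IsPrime] [q.LiesOver p]
    (h : Subsingleton (p.ResidueField ⊗[R] M)) : Subsingleton (q.ResidueField ⊗[A] M) := by
  let φ : p.ResidueField →ₐ[R] q.ResidueField :=
    Ideal.ResidueField.mapₐ p q (Algebra.ofId R A) (Ideal.LiesOver.over (P := q) (p := p))
  let ψ : p.ResidueField ⊗[R] M →ₗ[R] q.ResidueField ⊗[A] M :=
    TensorProduct.lift (LinearMap.mk₂ R (fun (c : p.ResidueField) (m : M) => (φ c) ⊗ₜ[A] m)
      (fun c c' m => by rw [map_add, add_tmul])
      (fun r c m => by rw [map_smul, smul_tmul'])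
      (fun c m m' => by rw [tmul_add])
      (fun r c m => by rw [tmul_smul]))
  have h1 : ∀ m : M, (1 : q.ResidueField) ⊗ₜ[A] m = 0 := by
    intro m
    have : ψ (1 ⊗ₜ m) = (1 : q.ResidueField) ⊗ₜ[A] m := by
      simp [ψ]
    rw [← this, Subsingleton.elim (1 ⊗ₜ[R] m : p.ResidueField ⊗[R] M) 0, map_zero]
  refine ⟨fun a b => ?_⟩
  have h0 : ∀ a : q.ResidueField ⊗[A] M, a = 0 := by
    intro a
    induction a using TensorProduct.induction_on with
    | zero => rfl
    | tmul c m =>
      have : c ⊗ₜ[A] m = c • ((1 : q.ResidueField) ⊗ₜ[A] m) := by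
        rw [smul_tmul', smul_eq_mul, mul_one]
      rw [this, h1, smul_zero]
    | add x y hx hy => rw [hx, hy, add_zero]
  rw [h0 a, h0 b]

attribute [local instance] Algebra.TensorProduct.rightAlgebra in
/-- **fibrewise criterion**: if the fibre over `p` is unramified, the algebra is unramified at every
prime above `p` -/
theorem isUnramifiedAt_of_fiber [Algebra.FiniteType R A] (p : Ideal R) [p.IsPrime] (q : Ideal A)
    [q.IsPrime] [q.LiesOver p] [Algebra.FormallyUnramified p.ResidueField (p.Fiber A)] :
    Algebra.IsUnramifiedAt R q := by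
  change (⟨q, ‹_›⟩ : PrimeSpectrum A) ∈ Algebra.unramifiedLocus R A
  rw [Algebra.unramifiedLocus_eq_compl_support, Set.mem_compl_iff,
    Module.mem_support_iff_nontrivial_residueField_tensorProduct, not_nontrivial_iff_subsingleton]
  have h1 : Subsingleton Ω[p.Fiber A⁄p.ResidueField] :=
    (Algebra.formallyUnramified_iff _ _).1 inferInstance
  have h2 : Subsingleton (p.ResidueField ⊗[R] Ω[A⁄R]) :=
    (KaehlerDifferential.tensorKaehlerEquivBase R p.ResidueField A
      (p.Fiber A)).injective.subsingleton
  exact subsingleton_residueField_tensor p q h2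

end algebra

set_option backward.isDefEq.respectTransparency false in
theorem fco_unramified_affine {R A : CommRingCat.{u}} (φ : R ⟶ A) (q : ↥(Spec A)) (p : ↥(Spec R))
    (hp : Spec.map φ q = p) (hQ : LocallyOfFiniteType (Spec.map φ))
    (h : FormallyUnramified ((Spec.map φ).fiberToSpecResidueField p)) :
    FCo @FormallyUnramified (Spec.map φ) q := by
  rw [HasRingHomProperty.Spec_iff (P := @LocallyOfFiniteType)] at hQ
  algebraize [φ.hom]
  have hfib : Algebra.FormallyUnramified p.asIdeal.ResidueField (p.asIdeal.Fiber A) := by
    rw [← RingHom.formallyUnramified_algebraMap,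
      ← CommRingCat.hom_ofHom (algebraMap p.asIdeal.ResidueField (p.asIdeal.Fiber ↑A)),
      ← HasRingHomProperty.Spec_iff (P := @FormallyUnramified),
      ← MorphismProperty.arrow_mk_iso_iff (P := @FormallyUnramified)
        (Spec.fiberToSpecResidueFieldIso R A p)]
    exact h
  haveI : q.asIdeal.LiesOver p.asIdeal := ⟨by rw [← hp]; rfl⟩
  have hq : Algebra.IsUnramifiedAt R q.asIdeal := isUnramifiedAt_of_fiber p.asIdeal q.asIdeal
  obtain ⟨r, hr, hunr⟩ := Algebra.exists_formallyUnramified_of_isUnramifiedAt (R := R) q.asIdeal
  refine ⟨Spec (CommRingCat.of (Localization.Away r)),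
    Spec.map (CommRingCat.ofHom (algebraMap A (Localization.Away r))), inferInstance, ?_, ?_⟩
  · have hrange := PrimeSpectrum.localization_away_comap_range (Localization.Away r) r
    have hmem : q ∈ (PrimeSpectrum.basicOpen r : Set (PrimeSpectrum A)) := hr
    rw [← hrange] at hmem
    exact hmem
  · rw [← Spec.map_comp, HasRingHomProperty.Spec_iff (P := @FormallyUnramified)]
    have : (φ ≫ CommRingCat.ofHom (algebraMap A (Localization.Away r))).hom =
        algebraMap R (Localization.Away r) := by
      ext x
      simp [IsScalarTower.algebraMap_apply R A (Localization.Away r), RingHom.algebraMap_toAlgebra]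
    rw [this, RingHom.formallyUnramified_algebraMap]
    exact hunr

end Groth.Agent.Lib.Helper24.FibHom
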