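import Mathlib
import Groth.Agent.Lib.Helper24.FibHom.Main
import Groth.Agent.Lib.Helper24.FibHom.UnrAff
import Groth.Agent.Lib.Helper24.FibHom.SmoothAff
import Groth.Agent.Lib.Helper24.HomArt.Finite

/-!
# SGA3 VI_B 2.5 for smooth, étale, unramified and locally quasi-finite homomorphisms
-/

set_option autoImplicit false
universe u

open CategoryTheory MonoidalCategory CartesianMonoidalCategory MonObj GrpObj AlgebraicGeometry Limits

namespace Groth.Agent.Lib.Helper24.FibHom

open Groth.Agent.Lib.Helper24.HomogSep Groth.Agent.Lib.Helper24.NFT Groth.Agent.Lib.Helper24.HomArt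

section crit

variable {X Y : Scheme.{u}}

/-- fibrewise criterion for unramified morphisms at a point -/
theorem fc_unramified (f : X ⟶ Y) [LocallyOfFiniteType f] (x : X) (y : Y) (hy : f.base x = y)
    (h : FormallyUnramified (f.fiberToSpecResidueField y)) :
    ∃ W : X.Opens, x ∈ W ∧ FormallyUnramified (W.ι ≫ f) :=
  (fco_iff _ f x).1 (fco_of_affine @FormallyUnramified @LocallyOfFiniteType
    (fun g _ => inferInstance)
    (fun φ q p hp hQ h => fco_unramified_affine φ q p hp hQ h) f x y hy inferInstance h)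

/-- fibrewise criterion for smooth morphisms at a point -/
theorem fc_smooth (f : X ⟶ Y) [LocallyOfFinitePresentation f] [Flat f] (x : X) (y : Y)
    (hy : f.base x = y) (h : Smooth (f.fiberToSpecResidueField y)) :
    ∃ W : X.Opens, x ∈ W ∧ Smooth (W.ι ≫ f) :=
  (fco_iff _ f x).1 (fco_of_affine @Smooth FlatLfp
    (fun g _ => inferInstance)
    (fun φ q p hp hQ h => fco_smooth_affine φ q p hp hQ h) f x y hy ⟨inferInstance, inferInstance⟩ h)

/-- fibrewise criterion for locally quasi-finite morphisms at a point -/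
theorem fc_lqf (f : X ⟶ Y) [LocallyOfFiniteType f] (x : X) (y : Y) (hy : f.base x = y)
    (h : LocallyQuasiFinite (f.fiberToSpecResidueField y)) :
    ∃ W : X.Opens, x ∈ W ∧ LocallyQuasiFinite (W.ι ≫ f) := by
  subst hy
  haveI : LocallyOfFiniteType (f.fiberToSpecResidueField (f.base x)) :=
    inferInstanceAs (LocallyOfFiniteType (pullback.snd f (Y.fromSpecResidueField (f.base x))))
  have hdisc := (locallyQuasiFinite_iff_isDiscrete_preimage_singleton
    (f := f.fiberToSpecResidueField (f.base x))).1 h
      (IsLocalRing.closedPoint (Y.residueField (f.base x)))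
  have hd : _root_.IsDiscrete (Set.univ : Set ↥(f.fiber (f.base x))) :=
    hdisc.mono fun z _ => Subsingleton.elim (α := PrimeSpectrum _) _ _
  haveI : DiscreteTopology ↥(f.fiber (f.base x)) := isDiscrete_univ_iff.1 hd
  have hx : f.QuasiFiniteAt x :=
    Scheme.Hom.quasiFiniteAt_iff_isOpen_singleton_asFiber.2 (isOpen_discrete _)
  refine ⟨f.quasiFiniteLocus, hx, ?_⟩
  rw [← Scheme.Hom.quasiFiniteLocus_eq_top_iff, Scheme.Hom.quasiFiniteLocus_comp]
  exact Scheme.Opens.ι_preimage_self _

/-- fibrewise criterion for unramified morphisms at a point, open immersion form -/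
theorem fco_unramified (f : X ⟶ Y) [LocallyOfFiniteType f] (x : X) (y : Y) (hy : f.base x = y)
    (h : FormallyUnramified (f.fiberToSpecResidueField y)) : FCo @FormallyUnramified f x :=
  (fco_iff _ f x).2 (fc_unramified f x y hy h)

/-- fibrewise criterion for smooth morphisms at a point, open immersion form -/
theorem fco_smooth (f : X ⟶ Y) [LocallyOfFinitePresentation f] [Flat f] (x : X) (y : Y)
    (hy : f.base x = y) (h : Smooth (f.fiberToSpecResidueField y)) : FCo @Smooth f x :=
  (fco_iff _ f x).2 (fc_smooth f x y hy h)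

/-- fibrewise criterion for étale morphisms at a point, open immersion form -/
theorem fco_etale (f : X ⟶ Y) [LocallyOfFinitePresentation f] [Flat f] (x : X) (y : Y)
    (hy : f.base x = y) (h : Etale (f.fiberToSpecResidueField y)) : FCo @Etale f x := by
  haveI := h
  obtain ⟨U, j, hj, hx, hunr⟩ := fco_unramified f x y hy inferInstance
  haveI := hj
  haveI := hunr
  exact ⟨U, j, hj, hx, Etale.of_formallyUnramified_of_flat _⟩

/-- a morphism locally of finite presentation which is flat at a point is flat on an open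
neighbourhood -/
theorem exists_flat_open (f : X ⟶ Y) [LocallyOfFinitePresentation f] (x : X)
    (h : (f.stalkMap x).hom.Flat) : ∃ V : X.Opens, x ∈ V ∧ Flat (V.ι ≫ f) := by
  have hopen := Groth.Agent.Lib.Helper21.FlatDesc.isOpen_flat_locus f
  refine ⟨⟨_, hopen⟩, h, ?_⟩
  rw [Flat.iff_flat_stalkMap]
  intro z
  exact PtFlat.flat_stalkMap_comp _ f z ((Flat.iff_flat_stalkMap _).1 inferInstance z) z.2

/-- a pointwise criterion for flat morphisms yields one for morphisms flat at the point -/
theorem fco_of_flat_at (P : MorphismProperty Scheme.{u}) [IsZariskiLocalAtSource P]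
    (hcrit : ∀ {X Y : Scheme.{u}} (f : X ⟶ Y) [LocallyOfFinitePresentation f] [Flat f] (x : X)
      (y : Y), f.base x = y → P (f.fiberToSpecResidueField y) → FCo P f x)
    (f : X ⟶ Y) [LocallyOfFinitePresentation f] (x : X) (hflat : (f.stalkMap x).hom.Flat)
    (h : P (f.fiberToSpecResidueField (f.base x))) : FCo P f x := by
  obtain ⟨V, hxV, hV⟩ := exists_flat_open f x hflat
  haveI := hV
  have h1 := hcrit (V.ι ≫ f) ⟨x, hxV⟩ (f.base x) rfl (fibre_of_source V.ι f _ h)
  exact fco_of_source V.ι f ⟨x, hxV⟩ h1

end crit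

instance : LqfLft.{u}.RespectsIso :=
  MorphismProperty.RespectsIso.mk _
    (fun e f hf => ⟨(MorphismProperty.cancel_left_of_respectsIso @LocallyQuasiFinite e.hom f).2 hf.1,
      (MorphismProperty.cancel_left_of_respectsIso @LocallyOfFiniteType e.hom f).2 hf.2⟩)
    (fun e f hf => ⟨(MorphismProperty.cancel_right_of_respectsIso @LocallyQuasiFinite f e.hom).2 hf.1,
      (MorphismProperty.cancel_right_of_respectsIso @LocallyOfFiniteType f e.hom).2 hf.2⟩)

instance : IsZariskiLocalAtSource LqfLft.{u} :=
  IsZariskiLocalAtSource.mk'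
    (fun _ _ hf => ⟨IsZariskiLocalAtSource.comp hf.1 _, IsZariskiLocalAtSource.comp hf.2 _⟩)
    (fun _ _ U hU h => ⟨IsZariskiLocalAtSource.of_iSup_eq_top U hU fun i => (h i).1,
      IsZariskiLocalAtSource.of_iSup_eq_top U hU fun i => (h i).2⟩)

section grp

variable {S : Scheme.{u}} {G H : Over S} [GrpObj G] [GrpObj H]

/-- **SGA3 VI_B 2.5 (unramified case)** -/
theorem main_unramified (u : G ⟶ H) [IsMonHom u] [LocallyOfFiniteType u.left]
    (hG : ∀ s : S, LocallyOfFiniteType (G.hom.fiberToSpecResidueField s)) :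
    IsOpen {s : S | FormallyUnramified ((Over.pullback (S.fromSpecResidueField s)).map u).left} ∧
    {x : G.left | ∃ W : G.left.Opens, x ∈ W ∧ FormallyUnramified (W.ι ≫ u.left)} =
      G.hom.base ⁻¹' {s : S | FormallyUnramified
        ((Over.pullback (S.fromSpecResidueField s)).map u).left} :=
  main @FormallyUnramified u hG (fun _ _ x _ h => fc_unramified u.left x _ rfl h)

/-- **SGA3 VI_B 2.5 (locally quasi-finite case)** -/
theorem main_lqf (u : G ⟶ H) [IsMonHom u] [LocallyOfFiniteType u.left]
    (hG : ∀ s : S, LocallyOfFiniteType (G.hom.fiberToSpecResidueField s)) :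
    IsOpen {s : S | LocallyQuasiFinite ((Over.pullback (S.fromSpecResidueField s)).map u).left} ∧
    {x : G.left | ∃ W : G.left.Opens, x ∈ W ∧ LocallyQuasiFinite (W.ι ≫ u.left)} =
      G.hom.base ⁻¹' {s : S | LocallyQuasiFinite
        ((Over.pullback (S.fromSpecResidueField s)).map u).left} := by
  have key := main LqfLft u hG (fun _ _ x _ h => by
    obtain ⟨W, hxW, hW⟩ := fc_lqf u.left x _ rfl h.1
    exact ⟨W, hxW, hW, inferInstance⟩)
  have e1 : ∀ s : S, LqfLft ((Over.pullback (S.fromSpecResidueField s)).map u).left ↔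
      LocallyQuasiFinite ((Over.pullback (S.fromSpecResidueField s)).map u).left := fun s =>
    ⟨fun h => h.1, fun h => ⟨h, MorphismProperty.of_isPullback (P := @LocallyOfFiniteType)
      (isPullback_pullback_map (gs s) u).flip inferInstance⟩⟩
  have e2 : ∀ W : G.left.Opens, LqfLft (W.ι ≫ u.left) ↔ LocallyQuasiFinite (W.ι ≫ u.left) :=
    fun W => ⟨fun h => h.1, fun h => ⟨h, inferInstance⟩⟩
  simp only [e1, e2] at key
  exact key

variable [Flat G.hom] [LocallyOfFinitePresentation G.hom] [LocallyOfFiniteType H.hom]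

omit [GrpObj G] [GrpObj H] [Flat G.hom] in
theorem lfp_hom (u : G ⟶ H) : LocallyOfFinitePresentation u.left :=
  Groth.Agent.Lib.Helper4.CentralizerClosed.lfp_of_comp u.left H.hom
    (by rw [Over.w u]; infer_instance) inferInstance

omit [GrpObj G] [GrpObj H] [Flat G.hom] [LocallyOfFiniteType H.hom] in
theorem lft_fibres (s : S) : LocallyOfFiniteType (G.hom.fiberToSpecResidueField s) :=
  inferInstanceAs (LocallyOfFiniteType (pullback.snd G.hom (S.fromSpecResidueField s)))

/-- the homomorphism is flat at the points above `s` when `u_s` is flat -/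
theorem flat_at_of_fib (u : G ⟶ H) [IsMonHom u] (x : G.left)
    (h : Flat ((Over.pullback (S.fromSpecResidueField (G.hom.base x))).map u).left) :
    (u.left.stalkMap x).hom.Flat := by
  have h2 := (isOpen_setOf_flat_fib u).2
  have : x ∈ G.hom.base ⁻¹' {s : S | Flat ((Over.pullback (S.fromSpecResidueField s)).map u).left} :=
    h
  rw [← h2] at this
  exact this

/-- **SGA3 VI_B 2.5 (smooth case)** -/
theorem main_smooth (u : G ⟶ H) [IsMonHom u] :
    IsOpen {s : S | Smooth ((Over.pullback (S.fromSpecResidueField s)).map u).left} ∧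
    {x : G.left | ∃ W : G.left.Opens, x ∈ W ∧ Smooth (W.ι ≫ u.left)} =
      G.hom.base ⁻¹' {s : S | Smooth ((Over.pullback (S.fromSpecResidueField s)).map u).left} := by
  haveI := lfp_hom u
  refine main @Smooth u lft_fibres (fun s hs x hx h => ?_)
  subst hx
  haveI := hs
  have hflat := flat_at_of_fib u x inferInstance
  exact (fco_iff _ _ _).1 (fco_of_flat_at @Smooth (fun f _ _ x y hy h => fco_smooth f x y hy h)
    u.left x hflat h)

/-- **SGA3 VI_B 2.5 (étale case)** -/
theorem main_etale (u : G ⟶ H) [IsMonHom u] :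
    IsOpen {s : S | Etale ((Over.pullback (S.fromSpecResidueField s)).map u).left} ∧
    {x : G.left | ∃ W : G.left.Opens, x ∈ W ∧ Etale (W.ι ≫ u.left)} =
      G.hom.base ⁻¹' {s : S | Etale ((Over.pullback (S.fromSpecResidueField s)).map u).left} := by
  haveI := lfp_hom u
  refine main @Etale u lft_fibres (fun s hs x hx h => ?_)
  subst hx
  haveI := hs
  have hflat := flat_at_of_fib u x inferInstance
  exact (fco_iff _ _ _).1 (fco_of_flat_at @Etale (fun f _ _ x y hy h => fco_etale f x y hy h)
    u.left x hflat h)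

end grp

end Groth.Agent.Lib.Helper24.FibHom
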