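import Mathlib
import Groth.Agent.Lib.Helper24.FibHom.Props

/-!
# A morphism with a section whose fibre at `s` is trivial is an isomorphism near `s` (SGA3 VI_B 2.7)
-/

set_option autoImplicit false
universe u

open CategoryTheory AlgebraicGeometry Limits

namespace Groth.Agent.Lib.Helper24.FibHom

/-- if `g ≫ f` is an open immersion and `f` is unramified and locally of finite type, `g` is an open
immersion -/
theorem isOpenImmersion_of_comp_unramified {X Y Z : Scheme.{u}} (g : X ⟶ Y) (f : Y ⟶ Z)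
    [IsOpenImmersion (g ≫ f)] [LocallyOfFiniteType f] [FormallyUnramified f] :
    IsOpenImmersion g := by
  set gr : X ⟶ pullback (g ≫ f) f := pullback.lift (𝟙 X) g (by simp) with hgr
  have hg : g = gr ≫ pullback.snd _ _ := by rw [hgr, pullback.lift_snd]
  haveI : IsOpenImmersion gr :=
    MorphismProperty.of_isPullback (P := @IsOpenImmersion)
      (pullback_lift_diagonal_isPullback g f) inferInstance
  rw [hg]
  infer_instance

theorem exists_nhd_isIso {X S : Scheme.{u}} (π : X ⟶ S) (ε : S ⟶ X) (hε : ε ≫ π = 𝟙 S)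
    (hcl : IsClosedMap π.base) (s : S)
    (hfp : ∃ W : X.Opens, ε.base s ∈ W ∧ LocallyOfFinitePresentation (W.ι ≫ π))
    (hs : IsIso (π.fiberToSpecResidueField s)) :
    ∃ U : S.Opens, s ∈ U ∧ IsIso (π ∣_ U) := by
  obtain ⟨W, hsW, hW⟩ := hfp
  have hπε : ∀ t : S, π.base (ε.base t) = t := fun t => by
    rw [← Scheme.Hom.comp_apply, hε]; rfl
  -- `π` is unramified near `ε s`
  haveI : LocallyOfFiniteType (W.ι ≫ π) := inferInstance
  have hunr : FormallyUnramified (π.fiberToSpecResidueField s) := inferInstance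
  have h1 : FCo @FormallyUnramified (W.ι ≫ π) ⟨ε.base s, hsW⟩ :=
    fco_unramified (W.ι ≫ π) ⟨ε.base s, hsW⟩ s (hπε s) (fibre_of_source W.ι π s hunr)
  have h2 : FCo @FormallyUnramified π (ε.base s) := fco_of_source W.ι π ⟨ε.base s, hsW⟩ h1
  obtain ⟨W', hsW', hW'⟩ := (fco_iff _ π _).1 h2
  -- the open `N` on which `π` is unramified and locally of finite type
  let N : X.Opens := W' ⊓ W
  have hsN : ε.base s ∈ N := ⟨hsW', hsW⟩
  have hNunr : FormallyUnramified (N.ι ≫ π) := by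
    have : N.ι ≫ π = X.homOfLE (inf_le_left : N ≤ W') ≫ W'.ι ≫ π := by
      rw [← Category.assoc, Scheme.homOfLE_ι]
    rw [this]
    exact IsZariskiLocalAtSource.comp hW' _
  have hNlft : LocallyOfFiniteType (N.ι ≫ π) := by
    have : N.ι ≫ π = X.homOfLE (inf_le_right : N ≤ W) ≫ W.ι ≫ π := by
      rw [← Category.assoc, Scheme.homOfLE_ι]
    rw [this]
    infer_instance
  -- the section is an open immersion over `ε⁻¹ N`
  have hεN : IsOpenImmersion (ε ∣_ N) := by
    haveI : IsOpenImmersion ((ε ∣_ N) ≫ N.ι ≫ π) := by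
      rw [← Category.assoc, morphismRestrict_ι, Category.assoc, hε, Category.comp_id]
      infer_instance
    exact isOpenImmersion_of_comp_unramified (ε ∣_ N) (N.ι ≫ π)
  haveI : IsOpenImmersion ((ε ⁻¹ᵁ N).ι ≫ ε) := by
    rw [← morphismRestrict_ι]; infer_instance
  let V : X.Opens := ((ε ⁻¹ᵁ N).ι ≫ ε).opensRange
  have hV : ∀ x : X, x ∈ V ↔ ∃ t : S, ε.base t ∈ N ∧ ε.base t = x := by
    intro x
    constructor
    · rintro ⟨t, rfl⟩
      exact ⟨t.1, t.2, rfl⟩
    · rintro ⟨t, ht, rfl⟩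
      exact ⟨⟨t, ht⟩, rfl⟩
  -- the fibre over `s` is the point `ε s`
  have hfib : ∀ x : X, π.base x = s → x = ε.base s := by
    intro x hx
    haveI : Subsingleton ↥(π.fiber s) := by
      have e := (asIso (π.fiberToSpecResidueField s))
      have hsub : Subsingleton ↥(Spec (S.residueField s)) :=
        inferInstanceAs (Subsingleton (PrimeSpectrum (S.residueField s)))
      exact (TopCat.homeoOfIso (Scheme.forgetToTop.mapIso e)).injective.subsingleton
    have h1 : x ∈ Set.range (π.fiberι s).base := by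
      rw [Scheme.Hom.range_fiberι]; exact hx
    have h2 : ε.base s ∈ Set.range (π.fiberι s).base := by
      rw [Scheme.Hom.range_fiberι]; exact hπε s
    obtain ⟨a, rfl⟩ := h1
    obtain ⟨b, hb⟩ := h2
    rw [← hb, Subsingleton.elim a b]
  -- the neighbourhood `U`
  let U : S.Opens := ⟨(π.base '' (V : Set X)ᶜ)ᶜ, (hcl _ V.2.isClosed_compl).isOpen_compl⟩
  have hsU : s ∈ U := by
    rintro ⟨x, hxV, hx⟩
    apply hxV
    rw [hfib x hx]
    exact (hV _).2 ⟨s, hsN, rfl⟩
  have hUV : ∀ x : X, π.base x ∈ U → x ∈ V := by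
    intro x hx
    by_contra hxV
    exact hx ⟨x, hxV, rfl⟩
  refine ⟨U, hsU, ?_⟩
  have hUN : U ≤ ε ⁻¹ᵁ N := by
    intro t ht
    have : ε.base t ∈ V := hUV _ (by rw [hπε]; exact ht)
    obtain ⟨t', ht', he⟩ := (hV _).1 this
    change ε.base t ∈ N
    rw [← he]; exact ht'
  haveI : IsOpenImmersion (U.ι ≫ ε) := by
    have : U.ι ≫ ε = S.homOfLE hUN ≫ (ε ⁻¹ᵁ N).ι ≫ ε := by
      rw [← Category.assoc, Scheme.homOfLE_ι]
    rw [this]; infer_instance
  have hr : Set.range (U.ι ≫ ε).base ⊆ Set.range (π ⁻¹ᵁ U).ι.base := by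
    rintro _ ⟨t, rfl⟩
    rw [Scheme.Opens.range_ι]
    change π.base ((U.ι ≫ ε).base t) ∈ U
    rw [Scheme.Hom.comp_apply, hπε]
    exact t.2
  let σ : (U : Scheme.{u}) ⟶ (π ⁻¹ᵁ U : Scheme.{u}) := IsOpenImmersion.lift (π ⁻¹ᵁ U).ι (U.ι ≫ ε) hr
  have hσ : σ ≫ (π ⁻¹ᵁ U).ι = U.ι ≫ ε := IsOpenImmersion.lift_fac _ _ _
  haveI : IsOpenImmersion σ := by
    haveI : IsOpenImmersion (σ ≫ (π ⁻¹ᵁ U).ι) := by rw [hσ]; infer_instance
    exact IsOpenImmersion.of_comp σ (π ⁻¹ᵁ U).ι
  haveI : Surjective σ := by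
    constructor
    intro x
    have hxV : x.1 ∈ V := hUV _ x.2
    obtain ⟨t, -, he⟩ := (hV _).1 hxV
    have htU : t ∈ U := by
      have : π.base x.1 ∈ U := x.2
      rw [← he, hπε] at this
      exact this
    refine ⟨⟨t, htU⟩, ?_⟩
    apply (π ⁻¹ᵁ U).ι.isOpenEmbedding.injective
    rw [← Scheme.Hom.comp_apply, hσ, Scheme.Hom.comp_apply]
    exact he
  haveI : IsIso σ := (isIso_iff_isOpenImmersion_and_surjective σ).2 ⟨inferInstance, inferInstance⟩
  have hcomp : σ ≫ (π ∣_ U) = 𝟙 _ := by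
    rw [← cancel_mono U.ι, Category.assoc, morphismRestrict_ι, ← Category.assoc, hσ,
      Category.assoc, hε, Category.comp_id, Category.id_comp]
  haveI : IsIso (σ ≫ (π ∣_ U)) := by rw [hcomp]; infer_instance
  exact IsIso.of_isIso_comp_left σ (π ∣_ U)

end Groth.Agent.Lib.Helper24.FibHom
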