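import Mathlib
import Groth.Agent.Lib.Helper4.ActShear2

/-!
# Right multiplication by a `T`-point
-/

set_option autoImplicit false
universe u

open CategoryTheory MonoidalCategory CartesianMonoidalCategory MonObj GrpObj AlgebraicGeometry Limits

namespace Groth.Agent.Lib.Helper24.FibHom

variable {S : Scheme.{u}} {G : Over S} [GrpObj G] {T : Over S} (g : T ⟶ G)

/-- right multiplication by a `T`-point: `(x, t) ↦ x · g(t)` -/
noncomputable def mulR : G ⊗ T ⟶ G := fst G T * (snd G T ≫ g)

theorem mulR_eq : mulR g = (G ◁ g) ≫ μ[G] := by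
  unfold mulR
  rw [Hom.mul_def]
  congr 1

noncomputable def shearR : G ⊗ T ⟶ G ⊗ T := lift (mulR g) (snd G T)

noncomputable def shearRInv : G ⊗ T ⟶ G ⊗ T := lift (fst G T * (snd G T ≫ g)⁻¹) (snd G T)

theorem shearR_shearRInv : shearR g ≫ shearRInv g = 𝟙 _ := by
  apply CartesianMonoidalCategory.hom_ext
  · simp only [shearR, shearRInv, mulR, Category.assoc, lift_fst, MonObj.comp_mul, GrpObj.comp_inv,
      Category.id_comp]
    rw [← Category.assoc, lift_snd, mul_inv_cancel_right]
  · simp [shearR, shearRInv]

theorem shearRInv_shearR : shearRInv g ≫ shearR g = 𝟙 _ := by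
  apply CartesianMonoidalCategory.hom_ext
  · simp only [shearR, shearRInv, mulR, Category.assoc, lift_fst, MonObj.comp_mul,
      Category.id_comp]
    rw [← Category.assoc, lift_snd, inv_mul_cancel_right]
  · simp [shearR, shearRInv]

instance : IsIso (shearR g) := ⟨shearRInv g, shearR_shearRInv g, shearRInv_shearR g⟩

instance : IsIso (shearR g).left :=
  inferInstanceAs (IsIso ((Over.forget S).map (shearR g)))

theorem mulR_eq_shearR : mulR g = shearR g ≫ fst G T := by
  unfold shearR
  rw [lift_fst]

theorem mulR_left : (mulR g).left = (shearR g).left ≫ pullback.fst G.hom T.hom := by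
  rw [mulR_eq_shearR]
  rfl

/-- right multiplication by a `T`-point has every property of `T ⟶ S` stable under base change -/
theorem of_base_change_R (P : MorphismProperty Scheme.{u}) [P.IsStableUnderBaseChange]
    (h : P T.hom) : P (mulR g).left := by
  have : P.RespectsIso := MorphismProperty.IsStableUnderBaseChange.respectsIso
  rw [mulR_left g, P.cancel_left_of_respectsIso]
  exact MorphismProperty.of_isPullback (P := P) (IsPullback.of_hasPullback G.hom T.hom).flip h

/-- `u (x · g t) = u x · u (g t)` -/
theorem mulR_hom {H : Over S} [GrpObj H] (u : G ⟶ H) [IsMonHom u] :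
    mulR g ≫ u = (G ◁ (g ≫ u)) ≫ ((u ⊗ₘ 𝟙 H) ≫ μ[H]) := by
  rw [mulR_eq, Category.assoc, IsMonHom.mul_hom, ← Category.assoc, ← Category.assoc]
  congr 1
  rw [← id_tensorHom, ← id_tensorHom, tensorHom_comp_tensorHom,
    tensorHom_comp_tensorHom, Category.id_comp, Category.comp_id]

end Groth.Agent.Lib.Helper24.FibHom
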