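import Mathlib
import Groth.Agent.Lib.Helper24.FibHom.Props

/-!
# SGA3 VI_B 2.5 (open immersions): radicial homomorphisms
-/

set_option autoImplicit false
universe u

open CategoryTheory MonoidalCategory CartesianMonoidalCategory MonObj GrpObj AlgebraicGeometry Limits

namespace Groth.Agent.Lib.Helper24.FibHom

open Groth.Agent.Lib.Helper24.HomogSep Groth.Agent.Lib.Helper24.NFT

/-- an étale universally injective morphism is an open immersion -/
theorem isOpenImmersion_of_etale_of_universallyInjective {X Y : Scheme.{u}} (f : X ⟶ Y) [Etale f]
    [UniversallyInjective f] : IsOpenImmersion f := by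
  haveI : Surjective (pullback.diagonal f) := (UniversallyInjective.iff_diagonal f).1 inferInstance
  haveI : IsOpenImmersion (pullback.diagonal f) := inferInstance
  haveI : IsIso (pullback.diagonal f) :=
    (isIso_iff_isOpenImmersion_and_surjective _).2 ⟨inferInstance, inferInstance⟩
  haveI : Mono f := (pullback.isIso_diagonal_iff f).1 inferInstance
  exact IsOpenImmersion.of_flat_of_mono f

/-- a property local at the source which holds near every point of an open holds on the open -/
theorem of_forall_mem_open (P : MorphismProperty Scheme.{u}) [IsZariskiLocalAtSource P]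
    {X Y : Scheme.{u}} (f : X ⟶ Y) (V : X.Opens)
    (h : ∀ x ∈ V, ∃ W : X.Opens, x ∈ W ∧ P (W.ι ≫ f)) : P (V.ι ≫ f) := by
  choose W hxW hW using h
  refine IsZariskiLocalAtSource.of_iSup_eq_top (P := P)
    (fun x : V => V.ι ⁻¹ᵁ W x.1 x.2) ?_ fun x => ?_
  · rw [eq_top_iff]
    intro z _
    exact TopologicalSpace.Opens.mem_iSup.2 ⟨z, hxW z.1 z.2⟩
  · rw [← Category.assoc, ← morphismRestrict_ι, Category.assoc]
    exact IsZariskiLocalAtSource.comp (hW x.1 x.2) _

variable {S : Scheme.{u}} {G H : Over S} [GrpObj G] [GrpObj H]
  [Flat G.hom] [LocallyOfFinitePresentation G.hom] [LocallyOfFiniteType H.hom]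

/-- **SGA3 VI_B 2.5 (open immersions)** -/
theorem main_openImmersion (u : G ⟶ H) [IsMonHom u] [UniversallyInjective u.left] :
    IsOpen {s : S | IsOpenImmersion ((Over.pullback (S.fromSpecResidueField s)).map u).left} ∧
    ∀ W : S.Opens, (W : Set S) ⊆
      {s : S | IsOpenImmersion ((Over.pullback (S.fromSpecResidueField s)).map u).left} →
        IsOpenImmersion ((G.hom ⁻¹ᵁ W).ι ≫ u.left) := by
  have heq : {s : S | IsOpenImmersion ((Over.pullback (S.fromSpecResidueField s)).map u).left} =
      {s : S | Etale ((Over.pullback (S.fromSpecResidueField s)).map u).left} := by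
    ext s
    constructor
    · intro (h : IsOpenImmersion ((Over.pullback (S.fromSpecResidueField s)).map u).left)
      exact (inferInstance : Etale ((Over.pullback (S.fromSpecResidueField s)).map u).left)
    · intro (h : Etale ((Over.pullback (S.fromSpecResidueField s)).map u).left)
      haveI : UniversallyInjective ((Over.pullback (S.fromSpecResidueField s)).map u).left :=
        MorphismProperty.of_isPullback (P := @UniversallyInjective)
          (isPullback_pullback_map (gs s) u).flip inferInstance
      exact isOpenImmersion_of_etale_of_universallyInjective _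
  obtain ⟨h1, h2⟩ := main_etale u
  rw [heq]
  refine ⟨h1, fun W hW => ?_⟩
  haveI : Etale ((G.hom ⁻¹ᵁ W).ι ≫ u.left) := by
    refine of_forall_mem_open @Etale u.left _ fun x hx => ?_
    have : x ∈ G.hom.base ⁻¹' {s : S | Etale
        ((Over.pullback (S.fromSpecResidueField s)).map u).left} := hW hx
    rw [← h2] at this
    exact this
  haveI : UniversallyInjective ((G.hom ⁻¹ᵁ W).ι ≫ u.left) :=
    MorphismProperty.comp_mem @UniversallyInjective _ _ inferInstance inferInstance
  exact isOpenImmersion_of_etale_of_universallyInjective _

end Groth.Agent.Lib.Helper24.FibHom
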