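import Mathlib
import Groth.Agent.Lib.Helper24.FibHom.OpenImm
import Groth.Agent.Lib.Helper24.FibHom.MulR
import Groth.Agent.Lib.Helper24.PtFlat.Homog
import Groth.Agent.Lib.Helper4.MaxOpenGrp
import Groth.Agent.Lib.Helper21.FlatDescS

/-!
# SGA3 VI_B 1.3: homomorphisms over a local artinian ring which have a property at a point
-/

set_option autoImplicit false
universe u

open CategoryTheory MonoidalCategory CartesianMonoidalCategory MonObj GrpObj AlgebraicGeometry Limits

namespace Groth.Agent.Lib.Helper24.FibHom

open Groth.Agent.Lib.Helper24.HomogSep Groth.Agent.Lib.Helper24.NFT Groth.Agent.Lib.Helper24.HomArt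
open Groth.Agent.Lib.Helper4.ActShear Groth.Agent.Lib.Helper4.ActShear2

section general

variable {S : Scheme.{u}} {G H : Over S} [GrpObj G] [GrpObj H]

/-- a homomorphism which is locally of finite presentation on an open surjecting onto the base is
locally of finite presentation (the source being flat and locally of finite presentation) -/
theorem lfp_of_open [Flat G.hom] [LocallyOfFinitePresentation G.hom] (u : G ⟶ H) [IsMonHom u]
    (W : G.left.Opens) (hsurj : Surjective (W.ι ≫ G.hom))
    (h : LocallyOfFinitePresentation (W.ι ≫ u.left)) : LocallyOfFinitePresentation u.left := by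
  let T : Over S := Over.mk (W.ι ≫ G.hom)
  let g : T ⟶ G := Over.homMk W.ι rfl
  have hT1 : Flat T.hom := inferInstanceAs (Flat (W.ι ≫ G.hom))
  have hT2 : LocallyOfFinitePresentation T.hom :=
    inferInstanceAs (LocallyOfFinitePresentation (W.ι ≫ G.hom))
  have hT3 : Surjective T.hom := hsurj
  haveI : Flat (mulR g).left := of_base_change_R g @Flat hT1
  haveI : LocallyOfFinitePresentation (mulR g).left :=
    of_base_change_R g @LocallyOfFinitePresentation hT2
  haveI : Surjective (mulR g).left := of_base_change_R g @Surjective hT3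
  haveI : LocallyOfFinitePresentation ((mulR g).left ≫ u.left) := by
    have e : (mulR g).left ≫ u.left = (G ◁ (g ≫ u)).left ≫ ((u ⊗ₘ 𝟙 H) ≫ μ[H]).left := by
      rw [← Over.comp_left, ← Over.comp_left, mulR_hom]
    rw [e]
    haveI h1 : LocallyOfFinitePresentation (G ◁ (g ≫ u)).left :=
      MorphismProperty.of_isPullback (P := @LocallyOfFinitePresentation)
        (Groth.Agent.Lib.Helper4.MaxOpenGrp.isPullback_whiskerLeft G T H (g ≫ u)).flip
        (h : LocallyOfFinitePresentation (g ≫ u).left)
    haveI h2 : LocallyOfFinitePresentation ((u ⊗ₘ 𝟙 H) ≫ μ[H]).left :=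
      of_base_change_T (selfAct H) u @LocallyOfFinitePresentation inferInstance
    infer_instance
  exact Groth.Agent.Lib.Helper21.FlatDesc.locallyOfFinitePresentation_of_fppf_comp (mulR g).left u.left

/-- a property local at the source which holds near every point holds -/
theorem of_forall_mem (P : MorphismProperty Scheme.{u}) [IsZariskiLocalAtSource P]
    {X Y : Scheme.{u}} (f : X ⟶ Y) (h : ∀ x : X, ∃ W : X.Opens, x ∈ W ∧ P (W.ι ≫ f)) : P f := by
  choose W hxW hW using h
  refine IsZariskiLocalAtSource.of_iSup_eq_top (P := P) W ?_ hW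
  rw [eq_top_iff]
  intro z _
  exact TopologicalSpace.Opens.mem_iSup.2 ⟨z, hxW z⟩

/-- over a one-point base, the conclusion of `main` says that `P` on a nonempty open implies `P` -/
theorem of_open_of_subsingleton [Subsingleton S] (P : MorphismProperty Scheme.{u})
    [IsZariskiLocalAtSource P] (u : G ⟶ H)
    (hmain : {x : G.left | ∃ W : G.left.Opens, x ∈ W ∧ P (W.ι ≫ u.left)} =
      G.hom.base ⁻¹' {s : S | P ((Over.pullback (S.fromSpecResidueField s)).map u).left})
    (W : G.left.Opens) (hW : (W : Set G.left).Nonempty) (h : P (W.ι ≫ u.left)) : P u.left := by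
  obtain ⟨x₀, hx₀⟩ := hW
  have h0 : x₀ ∈ {x : G.left | ∃ W : G.left.Opens, x ∈ W ∧ P (W.ι ≫ u.left)} := ⟨W, hx₀, h⟩
  rw [hmain] at h0
  refine of_forall_mem P u.left fun x => ?_
  have hx : x ∈ G.hom.base ⁻¹' {s : S | P ((Over.pullback (S.fromSpecResidueField s)).map u).left} := by
    rw [Set.mem_preimage, Subsingleton.elim (G.hom.base x) (G.hom.base x₀)]
    exact h0
  rw [← hmain] at hx
  exact hx

end general

section artinian

variable (A : Type u) [CommRing A] [IsArtinianRing A] [IsLocalRing A]
  (G H : Over (Spec (CommRingCat.of A))) [GrpObj G] [GrpObj H]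
  [Flat G.hom] [LocallyOfFiniteType G.hom] (u : G ⟶ H) [IsMonHom u]

/-- **SGA3 VI_B 1.3 (quasi-finite, unramified, smooth, étale cases).** -/
theorem main5337 (W : G.left.Opens) (hW : (W : Set G.left).Nonempty) :
    (LocallyQuasiFinite (W.ι ≫ u.left) → LocallyQuasiFinite u.left) ∧
    (FormallyUnramified (W.ι ≫ u.left) → LocallyOfFinitePresentation (W.ι ≫ u.left) →
      FormallyUnramified u.left ∧ LocallyOfFinitePresentation u.left) ∧
    (Smooth (W.ι ≫ u.left) → Smooth u.left) ∧ (Etale (W.ι ≫ u.left) → Etale u.left) := by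
  haveI : Subsingleton ↥(Spec (CommRingCat.of A)) := PtFlat.subsingleton_spec_of_artinian_local A
  haveI : IsLocallyNoetherian (Spec (CommRingCat.of A)) := inferInstance
  haveI : LocallyOfFinitePresentation G.hom :=
    LocallyOfFinitePresentation.iff_locallyOfFiniteType.2 inferInstance
  haveI : LocallyOfFiniteType (u.left ≫ H.hom) := by rw [Over.w u]; infer_instance
  haveI : LocallyOfFiniteType u.left := locallyOfFiniteType_of_comp u.left H.hom
  have hG : ∀ s : ↥(Spec (CommRingCat.of A)),
      LocallyOfFiniteType (G.hom.fiberToSpecResidueField s) := fun s =>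
    inferInstanceAs (LocallyOfFiniteType (pullback.snd G.hom (Scheme.fromSpecResidueField _ s)))
  have hsurj : Surjective (W.ι ≫ G.hom) := by
    constructor
    intro s
    obtain ⟨x, hx⟩ := hW
    exact ⟨⟨x, hx⟩, Subsingleton.elim _ _⟩
  -- flatness from flatness on `W`
  have hflat : Flat (W.ι ≫ u.left) → Flat u.left := by
    intro h
    obtain ⟨x, hx⟩ := hW
    have h1 := (Flat.iff_flat_stalkMap (W.ι ≫ u.left)).1 h ⟨x, hx⟩
    have h2 := (Flat.iff_flat_stalkMap W.ι).1 inferInstance ⟨x, hx⟩
    exact PtFlat.flat_hom_of_flat_at_point u _ (PtFlat.flat_stalkMap_of_comp W.ι u.left ⟨x, hx⟩ h2 h1)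
  refine ⟨?_, ?_, ?_, ?_⟩
  · intro h
    have key := main LqfLft u hG (fun _ _ x _ h => by
      obtain ⟨W, hxW, hW⟩ := fc_lqf u.left x _ rfl h.1
      exact ⟨W, hxW, hW, inferInstance⟩)
    exact (of_open_of_subsingleton LqfLft u key.2 W hW ⟨h, inferInstance⟩).1
  · intro h1 h2
    have key := main_unramified u hG
    exact ⟨of_open_of_subsingleton @FormallyUnramified u key.2 W hW h1,
      lfp_of_open u W hsurj h2⟩
  · intro h
    haveI := h
    haveI : Flat u.left := hflat inferInstance
    haveI : LocallyOfFinitePresentation u.left := lfp_of_open u W hsurj inferInstance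
    have key := main @Smooth u hG (fun _ _ x _ h => fc_smooth u.left x _ rfl h)
    exact of_open_of_subsingleton @Smooth u key.2 W hW h
  · intro h
    haveI := h
    haveI : Flat u.left := hflat inferInstance
    haveI : LocallyOfFinitePresentation u.left := lfp_of_open u W hsurj inferInstance
    have key := main @Etale u hG (fun _ _ x _ h => (fco_iff _ _ _).1 (fco_etale u.left x _ rfl h))
    exact of_open_of_subsingleton @Etale u key.2 W hW h

end artinian

end Groth.Agent.Lib.Helper24.FibHom
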