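import Mathlib
import Groth.Agent.Lib.Helper24.FibHom.Field
import Groth.Agent.Lib.Helper24.FibHom.OpenImm

/-!
# Homogeneity, relative to an open subscheme locally of finite type

The group is arbitrary; only an open `V₀` of it is assumed to be locally of finite type over the
field.  A property which holds on an open meeting `V₀` holds on all of `V₀`.
-/

set_option autoImplicit false
universe u

open CategoryTheory MonoidalCategory CartesianMonoidalCategory MonObj GrpObj AlgebraicGeometry Limits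

namespace Groth.Agent.Lib.Helper24.FibHom

open Groth.Agent.Lib.Helper24.HomogSep Groth.Agent.Lib.Helper24.NFT
open Groth.Agent.Lib.Helper4.ActShear Groth.Agent.Lib.Helper4.ActShear2

variable (P : MorphismProperty Scheme.{u})

section algClosed

variable {K : Type u} [Field K] [IsAlgClosed K]

/-- **Homogeneity relative to an open.** -/
theorem of_homogeneous' [IsZariskiLocalAtSource P] {Y Z : Scheme.{u}} (f : Y ⟶ Z)
    (pY : Y ⟶ Spec (CommRingCat.of K)) (Y₀ : Y.Opens) [LocallyOfFiniteType (Y₀.ι ≫ pY)]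
    (W : Y.Opens) (hWne : ((W : Set Y) ∩ (Y₀ : Set Y)).Nonempty) (hW : P (W.ι ≫ f))
    (htrans : ∀ c c' : Spec (CommRingCat.of K) ⟶ Y, c ≫ pY = 𝟙 _ → c' ≫ pY = 𝟙 _ →
      ∃ (l : Y ≅ Y) (τ : Z ≅ Z), l.hom ≫ f = f ≫ τ.hom ∧ c ≫ l.hom = c') : P (Y₀.ι ≫ f) := by
  have hid : Spec.map (CommRingCat.ofHom (algebraMap K K)) = 𝟙 (Spec (CommRingCat.of K)) := by
    change Spec.map (CommRingCat.ofHom (RingHom.id K)) = 𝟙 _
    exact Spec.map_id _
  have hne0 : ((Y₀.ι ⁻¹ᵁ W : (Y₀ : Scheme.{u}).Opens) : Set ↥(Y₀ : Scheme.{u})).Nonempty := by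
    obtain ⟨y, hyW, hy0⟩ := hWne
    exact ⟨⟨y, hy0⟩, hyW⟩
  obtain ⟨c₀', hc₀', hc₀W⟩ := Homog.exists_Kpoint_mem_open (k := K) (K := K) (Y₀.ι ≫ pY)
    (Y₀.ι ⁻¹ᵁ W) hne0
  rw [hid] at hc₀'
  set c₀ : Spec (CommRingCat.of K) ⟶ Y := c₀' ≫ Y₀.ι with hc₀def
  have hc₀ : c₀ ≫ pY = 𝟙 _ := by rw [hc₀def, Category.assoc]; exact hc₀'
  refine of_forall_mem_open P f Y₀ ?_
  by_contra hcon
  push Not at hcon
  obtain ⟨y, hy0, hy⟩ := hcon
  let F : Y.Opens := ⨆ V : {V : Y.Opens // P (V.ι ≫ f)}, V.1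
  have hyF : y ∉ F := by
    intro hyF
    obtain ⟨V, hyV⟩ := TopologicalSpace.Opens.mem_iSup.1 hyF
    exact hy V.1 hyV V.2
  have hZcl : IsClosed (Y₀.ι.base ⁻¹' ((F : Set Y)ᶜ)) :=
    F.2.isClosed_compl.preimage Y₀.ι.continuous
  have hZne : (Y₀.ι.base ⁻¹' ((F : Set Y)ᶜ)).Nonempty := ⟨⟨y, hy0⟩, hyF⟩
  obtain ⟨c'', hc'', hc''F⟩ := Homog.exists_Kpoint_mem_closed (k := K) (K := K) (Y₀.ι ≫ pY) _
    hZcl hZne
  rw [hid] at hc''
  set c' : Spec (CommRingCat.of K) ⟶ Y := c'' ≫ Y₀.ι with hc'def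
  have hc' : c' ≫ pY = 𝟙 _ := by rw [hc'def, Category.assoc]; exact hc''
  obtain ⟨l, τ, hlτ, hl⟩ := htrans c₀ c' hc₀ hc'
  let t : ↥(Spec (CommRingCat.of K)) := IsLocalRing.closedPoint K
  apply hc''F t
  change c'.base t ∈ F
  refine TopologicalSpace.Opens.mem_iSup.2 ⟨⟨l.inv ⁻¹ᵁ W, translate P f l τ hlτ W hW⟩, ?_⟩
  change l.inv.base (c'.base t) ∈ W
  rw [← hl, Scheme.Hom.comp_base, TopCat.comp_app, ← Scheme.Hom.comp_apply, Iso.hom_inv_id]
  exact hc₀W t

/-- **Homogeneity for homomorphisms over an algebraically closed field, relative to an open.** -/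
theorem hom_of_open_algClosed' [IsZariskiLocalAtSource P] (G H : Over (Spec (CommRingCat.of K)))
    [GrpObj G] [GrpObj H] (u : G ⟶ H) [IsMonHom u] (V₀ : G.left.Opens)
    [LocallyOfFiniteType (V₀.ι ≫ G.hom)]
    (W : G.left.Opens) (hW : ((W : Set G.left) ∩ (V₀ : Set G.left)).Nonempty)
    (h : P (W.ι ≫ u.left)) : P (V₀.ι ≫ u.left) := by
  refine of_homogeneous' P u.left G.hom V₀ W hW h ?_
  intro c c' hc hc'
  let gc : 𝟙_ (Over (Spec (CommRingCat.of K))) ⟶ G := Over.homMk c (by exact hc)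
  let gc' : 𝟙_ (Over (Spec (CommRingCat.of K))) ⟶ G := Over.homMk c' (by exact hc')
  let g : 𝟙_ (Over (Spec (CommRingCat.of K))) ⟶ G := gc' * gc⁻¹
  let L : G.left ≅ G.left := (Over.forget _).mapIso (trIso (selfAct G) g)
  let τ : H.left ≅ H.left := (Over.forget _).mapIso (trIso (selfAct H) (g ≫ u))
  refine ⟨L, τ, ?_, ?_⟩
  · change (tr (selfAct G) g).left ≫ u.left = u.left ≫ (tr (selfAct H) (g ≫ u)).left
    rw [← Over.comp_left, ← Over.comp_left, tr_hom]
  · change c ≫ (tr (selfAct G) g).left = c'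
    have h1 : gc ≫ tr (selfAct G) g = gc' := by
      rw [point_tr]
      change gc' * gc⁻¹ * gc = gc'
      rw [inv_mul_cancel_right]
    have h2 := congrArg (fun m => m.left) h1
    simpa [gc, gc'] using h2

end algClosed

variable {k : Type u} [Field k]

/-- **Homogeneity for homomorphisms over a field, relative to an open.** -/
theorem hom_of_open_field' [IsZariskiLocalAtSource P] [P.IsStableUnderBaseChange]
    [P.DescendsAlong (@Surjective ⊓ @Flat ⊓ @QuasiCompact)]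
    (G H : Over (Spec (CommRingCat.of k)))
    [GrpObj G] [GrpObj H] (u : G ⟶ H) [IsMonHom u] (V₀ : G.left.Opens)
    [LocallyOfFiniteType (V₀.ι ≫ G.hom)]
    (W : G.left.Opens) (hW : ((W : Set G.left) ∩ (V₀ : Set G.left)).Nonempty)
    (h : P (W.ι ≫ u.left)) : P (V₀.ι ≫ u.left) := by
  let K : Type u := AlgebraicClosure k
  let g : Spec (CommRingCat.of K) ⟶ Spec (CommRingCat.of k) :=
    Spec.map (CommRingCat.ofHom (algebraMap k K))
  let G' : Over (Spec (CommRingCat.of K)) := Red.bc g G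
  let H' : Over (Spec (CommRingCat.of K)) := Red.bc g H
  let u' : G' ⟶ H' := (Over.pullback g).map u
  haveI : IsMonHom u' := inferInstance
  have sq : IsPullback u'.left (pullback.fst G.hom g) (pullback.fst H.hom g) u.left :=
    isPullback_pullback_map g u
  haveI : Nonempty ↥(Spec (CommRingCat.of K)) := inferInstanceAs (Nonempty (PrimeSpectrum K))
  haveI : Surjective g := surjective_of_nonempty g
  haveI : Flat g := inferInstance
  let p : G'.left ⟶ G.left := pullback.fst G.hom g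
  haveI : Surjective p := inferInstanceAs (Surjective (pullback.fst G.hom g))
  let W' : G'.left.Opens := p ⁻¹ᵁ W
  let V₀' : G'.left.Opens := p ⁻¹ᵁ V₀
  have hW' : ((W' : Set G'.left) ∩ (V₀' : Set G'.left)).Nonempty := by
    obtain ⟨w, hw, hw0⟩ := hW
    obtain ⟨w', rfl⟩ := p.surjective w
    exact ⟨w', hw, hw0⟩
  have sqW : IsPullback (p ∣_ W) (W'.ι ≫ u'.left) (W.ι ≫ u.left) (pullback.fst H.hom g) :=
    isPullback_restrict sq.flip W
  have sqV : IsPullback (p ∣_ V₀) (V₀'.ι ≫ u'.left) (V₀.ι ≫ u.left) (pullback.fst H.hom g) :=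
    isPullback_restrict sq.flip V₀
  have sqG : IsPullback (p ∣_ V₀) (V₀'.ι ≫ G'.hom) (V₀.ι ≫ G.hom) g :=
    isPullback_restrict (IsPullback.of_hasPullback G.hom g) V₀
  haveI : LocallyOfFiniteType (V₀'.ι ≫ G'.hom) :=
    MorphismProperty.of_isPullback (P := @LocallyOfFiniteType) sqG inferInstance
  have h' : P (W'.ι ≫ u'.left) := MorphismProperty.of_isPullback (P := P) sqW h
  have h1 : P (V₀'.ι ≫ u'.left) := hom_of_open_algClosed' P G' H' u' V₀' W' hW' h'
  refine MorphismProperty.of_isPullback_of_descendsAlong (P := P)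
    (Q := @Surjective ⊓ @Flat ⊓ @QuasiCompact) sqV.flip ⟨⟨?_, ?_⟩, ?_⟩ h1
  · exact (inferInstance : Surjective (pullback.fst H.hom g))
  · exact (inferInstance : Flat (pullback.fst H.hom g))
  · exact (inferInstance : QuasiCompact (pullback.fst H.hom g))

end Groth.Agent.Lib.Helper24.FibHom
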