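import Mathlib
import Groth.Agent.Lib.Helper24.FibHom.HomogOpen
import Groth.Agent.Lib.Helper24.FibHom.Main

/-!
# SGA3 VI_B 2.5 relative to an open `V₀` of `G` which is locally of finite type over `S`
-/

set_option autoImplicit false
universe u

open CategoryTheory MonoidalCategory CartesianMonoidalCategory MonObj GrpObj AlgebraicGeometry Limits

namespace Groth.Agent.Lib.Helper24.FibHom

open Groth.Agent.Lib.Helper24.HomogSep Groth.Agent.Lib.Helper24.NFT

variable (P : MorphismProperty Scheme.{u})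

variable {S : Scheme.{u}} {G H : Over S} [GrpObj G] [GrpObj H]

/-- the restriction of `u_s` to the fibre of `V₀` has `P` -/
def Pfib (u : G ⟶ H) (V₀ : G.left.Opens) (s : S) : Prop :=
  P ((pullback.fst G.hom (gs s) ⁻¹ᵁ V₀).ι ≫ ((Over.pullback (gs s)).map u).left)

/-- **SGA3 VI_B 2.5, relative to an open.** -/
theorem main_open [IsZariskiLocalAtSource P] [P.IsStableUnderBaseChange]
    [P.DescendsAlong (@Surjective ⊓ @Flat ⊓ @QuasiCompact)]
    (u : G ⟶ H) [IsMonHom u] (V₀ : G.left.Opens) [LocallyOfFiniteType (V₀.ι ≫ G.hom)]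
    (hFC : ∀ x ∈ V₀, P ((V₀.ι ≫ u.left).fiberToSpecResidueField (u.left.base x)) →
        ∃ W : G.left.Opens, x ∈ W ∧ P (W.ι ≫ u.left))
    (x : G.left) (hx : x ∈ V₀) :
    (∃ W : G.left.Opens, x ∈ W ∧ P (W.ι ≫ u.left)) ↔ Pfib P u V₀ (G.hom.base x) := by
  set s : S := G.hom.base x with hs
  let us : fib G s ⟶ fib H s := (Over.pullback (gs s)).map u
  have sq : IsPullback us.left (pullback.fst G.hom (gs s)) (pullback.fst H.hom (gs s)) u.left :=
    isPullback_pullback_map (gs s) u
  let o : ↥(Spec (CommRingCat.of (resκ s))) := IsLocalRing.closedPoint (resκ s)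
  have hgo : (gs s).base o = s := Scheme.fromSpecResidueField_apply _ _
  let p : (fib G s).left ⟶ G.left := pullback.fst G.hom (gs s)
  let V₀' : (fib G s).left.Opens := p ⁻¹ᵁ V₀
  have sqV : IsPullback (p ∣_ V₀) (V₀'.ι ≫ us.left) (V₀.ι ≫ u.left)
      (pullback.fst H.hom (gs s)) := isPullback_restrict sq.flip V₀
  constructor
  · rintro ⟨W, hxW, hW⟩
    obtain ⟨x', hx'1, -⟩ :=
      Scheme.Pullback.exists_preimage_pullback (f := G.hom) (g := gs s) x o (hs.symm.trans hgo.symm)
    let W' : (fib G s).left.Opens := p ⁻¹ᵁ W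
    have hW' : ((W' : Set (fib G s).left) ∩ (V₀' : Set (fib G s).left)).Nonempty := ⟨x', by
      change p.base x' ∈ W
      rw [hx'1]; exact hxW, by
      change p.base x' ∈ V₀
      rw [hx'1]; exact hx⟩
    have sqW : IsPullback (p ∣_ W) (W'.ι ≫ us.left) (W.ι ≫ u.left)
        (pullback.fst H.hom (gs s)) := isPullback_restrict sq.flip W
    have h' : P (W'.ι ≫ us.left) := MorphismProperty.of_isPullback (P := P) sqW hW
    have sqG : IsPullback (p ∣_ V₀) (V₀'.ι ≫ (fib G s).hom) (V₀.ι ≫ G.hom) (gs s) :=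
      isPullback_restrict (IsPullback.of_hasPullback G.hom (gs s)) V₀
    haveI : LocallyOfFiniteType (V₀'.ι ≫ (fib G s).hom) :=
      MorphismProperty.of_isPullback (P := @LocallyOfFiniteType) sqG inferInstance
    exact hom_of_open_field' P (fib G s) (fib H s) us V₀' W' hW' h'
  · intro hus
    have hHx : H.hom.base (u.left.base x) = s := by
      rw [← Scheme.Hom.comp_apply, Over.w u]
    obtain ⟨y', hy'1, -⟩ :=
      Scheme.Pullback.exists_preimage_pullback (f := H.hom) (g := gs s) (u.left.base x) o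
        (hHx.trans hgo.symm)
    have hfib' : P ((V₀'.ι ≫ us.left).fiberToSpecResidueField y') :=
      P.pullback_snd _ _ hus
    have sqf := isPullback_fiberToSpecResidueField_of_isPullback sqV y'
    have hfib : P ((V₀.ι ≫ u.left).fiberToSpecResidueField
        ((pullback.fst H.hom (gs s)).base y')) := by
      refine MorphismProperty.of_isPullback_of_descendsAlong (P := P)
        (Q := @Surjective ⊓ @Flat ⊓ @QuasiCompact) sqf.flip ⟨⟨?_, ?_⟩, ?_⟩ hfib'
      · infer_instance
      · infer_instance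
      · infer_instance
    rw [hy'1] at hfib
    exact hFC x hx hfib

end Groth.Agent.Lib.Helper24.FibHom
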