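import Mathlib
import Groth.Agent.Lib.Helper24.FibHom.SmoothAff
import Groth.Agent.Lib.Helper4.ActShear2
import Groth.Agent.Lib.Helper4.MaxOpenGrp
import Groth.Agent.Lib.Helper21.FlatDescS
import Groth.Agent.Lib.Helper21.FlatDescU

/-!
# The largest open on which a homomorphism is flat and locally of finite presentation is a subgroup
-/

set_option autoImplicit false
universe u

open CategoryTheory MonoidalCategory CartesianMonoidalCategory MonObj GrpObj AlgebraicGeometry Limits

namespace Groth.Agent.Lib.Helper24.FibHom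

open Groth.Agent.Lib.Helper4.ActShear Groth.Agent.Lib.Helper4.ActShear2

variable {S : Scheme.{u}} (G H : Over S) [GrpObj G] [GrpObj H] (u : G ⟶ H) [IsMonHom u]

/-- the largest open on which `u` has a property respecting isomorphisms is stable under the
inversion -/
theorem inv_mem_maxOpen (P : MorphismProperty Scheme.{u}) [P.RespectsIso] (V : G.left.Opens)
    (hV : P (V.ι ≫ u.left)) (hmax : ∀ W : G.left.Opens, P (W.ι ≫ u.left) → W ≤ V)
    (g : G.left) (hg : g ∈ V) : ι[G].left.base g ∈ V := by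
  have hii : ι[G].left ≫ ι[G].left = 𝟙 _ := by
    rw [← Over.comp_left, GrpObj.inv_comp_inv]; rfl
  have : IsIso ι[G].left := ⟨ι[G].left, hii, hii⟩
  have hii' : ι[H].left ≫ ι[H].left = 𝟙 _ := by
    rw [← Over.comp_left, GrpObj.inv_comp_inv]; rfl
  have : IsIso ι[H].left := ⟨ι[H].left, hii', hii'⟩
  let W : G.left.Opens := ι[G].left ⁻¹ᵁ V
  have hW : W.ι ≫ u.left = (ι[G].left ∣_ V) ≫ (V.ι ≫ u.left) ≫ ι[H].left := by
    rw [← Category.assoc, ← Category.assoc, morphismRestrict_ι, Category.assoc, Category.assoc,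
      ← Over.comp_left, ← Over.comp_left, ← GrpObj.inv_hom, Over.comp_left, Over.comp_left,
      ← Category.assoc ι[G].left, hii, Category.id_comp]
  have hWu : P (W.ι ≫ u.left) := by
    rw [hW, P.cancel_left_of_respectsIso, P.cancel_right_of_respectsIso]
    exact hV
  have hle := hmax W hWu
  apply hle
  change ι[G].left.base (ι[G].left.base g) ∈ V
  rw [← Scheme.Hom.comp_apply, hii]
  exact hg

/-- the largest open on which `u` is flat and locally of finite presentation is stable under the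
multiplication -/
theorem mul_mem_maxOpen_flatLfp (V : G.left.Opens)
    (hV : FlatLfp (V.ι ≫ u.left)) (hVS : FlatLfp (V.ι ≫ G.hom))
    (hmax : ∀ W : G.left.Opens, FlatLfp (W.ι ≫ u.left) → W ≤ V)
    (z : ↥(G ⊗ G).left) (h1 : (fst G G).left.base z ∈ V) (h2 : (snd G G).left.base z ∈ V) :
    μ[G].left.base z ∈ V := by
  let T : Over S := Over.mk (V.ι ≫ G.hom)
  let g : T ⟶ G := Over.homMk V.ι rfl
  have hT : FlatLfp T.hom := hVS
  have hrg : Set.range g.left.base = (V : Set G.left) := Scheme.Opens.range_ι V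
  let m := ((g ⊗ₘ 𝟙 G) ≫ μ[G]).left
  have hm : FlatLfp m := of_base_change_T (selfAct G) g FlatLfp hT
  let ψ := ((g ⊗ₘ g) ≫ μ[G]).left
  have hψm : ψ = (T ◁ g).left ≫ m := by
    change ((g ⊗ₘ g) ≫ μ[G]).left = (T ◁ g).left ≫ ((g ⊗ₘ 𝟙 G) ≫ μ[G]).left
    rw [← Over.comp_left, ← Category.assoc]
    congr 2
    rw [tensorHom_def' g g, tensorHom_id]
  have hgo : IsOpenImmersion g.left := inferInstanceAs (IsOpenImmersion V.ι)
  haveI : IsOpenImmersion (T ◁ g).left := by
    rw [Over.whiskerLeft_left]; infer_instance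
  have hψ : FlatLfp ψ := by
    rw [hψm]
    exact IsZariskiLocalAtSource.comp hm _
  haveI := hψ.1
  haveI := hψ.2
  have hopen : IsOpen (Set.range ψ.base) := ψ.isOpenMap.isOpen_range
  let M : G.left.Opens := ⟨Set.range ψ.base, hopen⟩
  have hr : Set.range ψ.base ⊆ Set.range M.ι.base := by
    rw [Scheme.Opens.range_ι]; rfl
  let q : (T ⊗ T).left ⟶ M := IsOpenImmersion.lift M.ι ψ hr
  have hq : q ≫ M.ι = ψ := IsOpenImmersion.lift_fac _ _ _
  haveI hqs : Surjective q := by
    refine ⟨fun x => ?_⟩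
    obtain ⟨y, hy⟩ : M.ι.base x ∈ Set.range ψ.base := x.2
    refine ⟨y, M.ι.isOpenEmbedding.injective ?_⟩
    rw [← Scheme.Hom.comp_apply, hq, hy]
  haveI hqf : Flat q :=
    MorphismProperty.of_postcomp (W := @Flat) (W' := @IsOpenImmersion) q M.ι inferInstance
      (by rw [hq]; infer_instance)
  haveI hqp : LocallyOfFinitePresentation q :=
    MorphismProperty.of_postcomp (W := @LocallyOfFinitePresentation) (W' := @IsOpenImmersion)
      q M.ι inferInstance (by rw [hq]; infer_instance)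
  -- `ψ ≫ u` is flat and locally of finite presentation
  have hφ : FlatLfp (ψ ≫ u.left) := by
    have e1 : ψ ≫ u.left = (T ◁ (g ≫ u)).left ≫ (((g ≫ u) ⊗ₘ 𝟙 H) ≫ μ[H]).left := by
      change ((g ⊗ₘ g) ≫ μ[G]).left ≫ u.left = _
      rw [← Over.comp_left, ← Over.comp_left]
      congr 1
      rw [Category.assoc, IsMonHom.mul_hom, ← Category.assoc, ← Category.assoc]
      congr 1
      rw [tensorHom_comp_tensorHom, tensorHom_def' (g ≫ u) (g ≫ u), tensorHom_id]
    rw [e1]
    have h3 : FlatLfp (g ≫ u).left := hV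
    have h4 : FlatLfp (T ◁ (g ≫ u)).left :=
      MorphismProperty.of_isPullback (P := FlatLfp)
        (Groth.Agent.Lib.Helper4.MaxOpenGrp.isPullback_whiskerLeft T T H (g ≫ u)).flip h3
    have h5 : FlatLfp (((g ≫ u) ⊗ₘ 𝟙 H) ≫ μ[H]).left :=
      of_base_change_T (selfAct H) (g ≫ u) FlatLfp hT
    haveI := h4.1
    haveI := h4.2
    haveI := h5.1
    haveI := h5.2
    exact ⟨inferInstance, inferInstance⟩
  have hMu : FlatLfp (q ≫ (M.ι ≫ u.left)) := by
    rw [← Category.assoc, hq]; exact hφ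
  haveI := hMu.1
  haveI := hMu.2
  have hM : FlatLfp (M.ι ≫ u.left) :=
    ⟨Groth.Agent.Lib.Helper21.FlatDesc.flat_of_fppf_comp q (M.ι ≫ u.left),
      Groth.Agent.Lib.Helper21.FlatDesc.locallyOfFinitePresentation_of_fppf_comp q (M.ι ≫ u.left)⟩
  have hle := hmax M hM
  apply hle
  change μ[G].left.base z ∈ Set.range ψ.base
  have hz : z ∈ Set.range (g ⊗ₘ g).left.base := by
    rw [range_tensorHom_left, hrg]
    exact ⟨h1, h2⟩
  obtain ⟨z', rfl⟩ := hz
  refine ⟨z', ?_⟩
  change ((g ⊗ₘ g) ≫ μ[G]).left.base z' = _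
  rw [Over.comp_left, Scheme.Hom.comp_apply]

end Groth.Agent.Lib.Helper24.FibHom
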