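import Mathlib
import Groth.Agent.Lib.Helper24.FibHom.MaxOpenFlat
import Groth.Agent.Lib.Helper24.FibHom.MainOpen
import Groth.Agent.Lib.Helper24.FibHom.Props

/-!
# SGA3 VI_B 2.2: the largest open on which a homomorphism is flat-lfp / smooth / étale is an open
subgroup
-/

set_option autoImplicit false
universe u

open CategoryTheory MonoidalCategory CartesianMonoidalCategory MonObj GrpObj AlgebraicGeometry Limits

namespace Groth.Agent.Lib.Helper24.FibHom

open Groth.Agent.Lib.Helper24.HomogSep Groth.Agent.Lib.Helper24.NFT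

instance : MorphismProperty.DescendsAlong FlatLfp.{u} (@Surjective ⊓ @Flat ⊓ @QuasiCompact) where
  of_isPullback sq hf hfst :=
    ⟨MorphismProperty.of_isPullback_of_descendsAlong (P := @Flat)
        (Q := @Surjective ⊓ @Flat ⊓ @QuasiCompact) sq hf hfst.1,
      MorphismProperty.of_isPullback_of_descendsAlong (P := @LocallyOfFinitePresentation)
        (Q := @Surjective ⊓ @Flat ⊓ @QuasiCompact) sq hf hfst.2⟩

variable {S : Scheme.{u}} (G H : Over S) [GrpObj G] [GrpObj H] (u : G ⟶ H) [IsMonHom u]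

omit [GrpObj G] [GrpObj H] [IsMonHom u] in
/-- an open of `G` on which `u` is flat and locally of finite presentation is flat and locally of
finite presentation over `S` -/
theorem flatLfp_struct (hfl : Flat G.hom ∨ Flat H.hom)
    (hfp : LocallyOfFinitePresentation G.hom ∨ LocallyOfFinitePresentation H.hom)
    (W : G.left.Opens) (hW : FlatLfp (W.ι ≫ u.left)) : FlatLfp (W.ι ≫ G.hom) := by
  haveI := hW.1
  haveI := hW.2
  have e : W.ι ≫ G.hom = (W.ι ≫ u.left) ≫ H.hom := by rw [Category.assoc, Over.w u]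
  constructor
  · rcases hfl with h | h
    · infer_instance
    · rw [e]; infer_instance
  · rcases hfp with h | h
    · infer_instance
    · rw [e]; infer_instance

/-- the largest open on which `u` is flat and locally of finite presentation -/
noncomputable def flatLfpLocus : G.left.Opens :=
  ⨆ W : {W : G.left.Opens // FlatLfp (W.ι ≫ u.left)}, W.1

omit [GrpObj G] [GrpObj H] [IsMonHom u] in
theorem flatLfp_flatLfpLocus : FlatLfp ((flatLfpLocus G H u).ι ≫ u.left) := by
  refine of_forall_mem_open FlatLfp u.left _ fun x hx => ?_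
  obtain ⟨W, hxW⟩ := TopologicalSpace.Opens.mem_iSup.1 hx
  exact ⟨W.1, hxW, W.2⟩

omit [GrpObj G] [GrpObj H] [IsMonHom u] in
theorem le_flatLfpLocus (W : G.left.Opens) (hW : FlatLfp (W.ι ≫ u.left)) :
    W ≤ flatLfpLocus G H u := fun _ hx =>
  TopologicalSpace.Opens.mem_iSup.2 ⟨⟨W, hW⟩, hx⟩

/-- key: for the three properties, the largest `P`-open is the trace on the flat-lfp locus of the
inverse image of a subset of the base -/
theorem exists_eq_inter_preimage (hfl : Flat G.hom ∨ Flat H.hom)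
    (hfp : LocallyOfFinitePresentation G.hom ∨ LocallyOfFinitePresentation H.hom)
    (P : MorphismProperty Scheme.{u})
    (hP : (∀ (X Y : Scheme.{u}) (f : X ⟶ Y), P f ↔ (Flat f ∧ LocallyOfFinitePresentation f)) ∨
      (∀ (X Y : Scheme.{u}) (f : X ⟶ Y), P f ↔ Smooth f) ∨
      (∀ (X Y : Scheme.{u}) (f : X ⟶ Y), P f ↔ Etale f))
    (V : G.left.Opens) (hV : P (V.ι ≫ u.left))
    (hmax : ∀ W : G.left.Opens, P (W.ι ≫ u.left) → W ≤ V) :
    ∃ U' : Set S, (V : Set G.left) = (flatLfpLocus G H u : Set G.left) ∩ G.hom.base ⁻¹' U' := by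
  set V₀ := flatLfpLocus G H u with hV₀def
  have hV₀ := flatLfp_flatLfpLocus G H u
  have hV₀S := flatLfp_struct G H u hfl hfp V₀ hV₀
  haveI := hV₀.1
  haveI := hV₀.2
  haveI := hV₀S.2
  haveI : LocallyOfFiniteType (V₀.ι ≫ G.hom) := inferInstance
  rcases hP with hP | hP | hP
  · refine ⟨Set.univ, ?_⟩
    rw [Set.preimage_univ, Set.inter_univ]
    have h1 : V ≤ V₀ := le_flatLfpLocus G H u V ((hP _ _ _).1 hV)
    have h2 : V₀ ≤ V := hmax V₀ ((hP _ _ _).2 hV₀)
    exact congrArg _ (le_antisymm h1 h2)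
  · have hle : V ≤ V₀ := by
      haveI : Smooth (V.ι ≫ u.left) := (hP _ _ _).1 hV
      exact le_flatLfpLocus G H u V ⟨inferInstance, inferInstance⟩
    refine ⟨{s | Pfib @Smooth u V₀ s}, ?_⟩
    have hFC : ∀ x ∈ V₀, Smooth ((V₀.ι ≫ u.left).fiberToSpecResidueField (u.left.base x)) →
        ∃ W : G.left.Opens, x ∈ W ∧ Smooth (W.ι ≫ u.left) := fun x hx h =>
      (fco_iff _ _ _).1 (fco_of_source V₀.ι u.left ⟨x, hx⟩
        (fco_smooth (V₀.ι ≫ u.left) ⟨x, hx⟩ (u.left.base x) rfl h))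
    ext x
    constructor
    · intro hx
      exact ⟨hle hx, (main_open @Smooth u V₀ hFC x (hle hx)).1 ⟨V, hx, (hP _ _ _).1 hV⟩⟩
    · rintro ⟨hx0, hx⟩
      obtain ⟨W, hxW, hW⟩ := (main_open @Smooth u V₀ hFC x hx0).2 hx
      exact hmax W ((hP _ _ _).2 hW) hxW
  · have hle : V ≤ V₀ := by
      haveI : Etale (V.ι ≫ u.left) := (hP _ _ _).1 hV
      exact le_flatLfpLocus G H u V ⟨inferInstance, inferInstance⟩
    refine ⟨{s | Pfib @Etale u V₀ s}, ?_⟩
    have hFC : ∀ x ∈ V₀, Etale ((V₀.ι ≫ u.left).fiberToSpecResidueField (u.left.base x)) →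
        ∃ W : G.left.Opens, x ∈ W ∧ Etale (W.ι ≫ u.left) := fun x hx h =>
      (fco_iff _ _ _).1 (fco_of_source V₀.ι u.left ⟨x, hx⟩
        (fco_etale (V₀.ι ≫ u.left) ⟨x, hx⟩ (u.left.base x) rfl h))
    ext x
    constructor
    · intro hx
      exact ⟨hle hx, (main_open @Etale u V₀ hFC x (hle hx)).1 ⟨V, hx, (hP _ _ _).1 hV⟩⟩
    · rintro ⟨hx0, hx⟩
      obtain ⟨W, hxW, hW⟩ := (main_open @Etale u V₀ hFC x hx0).2 hx
      exact hmax W ((hP _ _ _).2 hW) hxW

/-- **SGA3 VI_B 2.2** -/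
theorem main5310 (hfl : Flat G.hom ∨ Flat H.hom)
    (hfp : LocallyOfFinitePresentation G.hom ∨ LocallyOfFinitePresentation H.hom)
    (P : MorphismProperty Scheme.{u})
    (hP : (∀ (X Y : Scheme.{u}) (f : X ⟶ Y), P f ↔ (Flat f ∧ LocallyOfFinitePresentation f)) ∨
      (∀ (X Y : Scheme.{u}) (f : X ⟶ Y), P f ↔ Smooth f) ∨
      (∀ (X Y : Scheme.{u}) (f : X ⟶ Y), P f ↔ Etale f))
    (V : G.left.Opens) (hV : P (V.ι ≫ u.left))
    (hmax : ∀ W : G.left.Opens, P (W.ι ≫ u.left) → W ≤ V) :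
    IsOpen (G.hom.base '' (V : Set G.left)) ∧
    (∀ g ∈ V, ∀ p : ↥(𝟙_ (Over S)).left, (𝟙_ (Over S)).hom.base p = G.hom.base g →
      η[G].left.base p ∈ V) ∧
    (∀ g ∈ V, ι[G].left.base g ∈ V) ∧
    (∀ z : ↥(G ⊗ G).left, (fst G G).left.base z ∈ V → (snd G G).left.base z ∈ V →
      μ[G].left.base z ∈ V) := by
  obtain ⟨U', hU'⟩ := exists_eq_inter_preimage G H u hfl hfp P hP V hV hmax
  set V₀ := flatLfpLocus G H u with hV₀def
  have hV₀ := flatLfp_flatLfpLocus G H u
  have hV₀S := flatLfp_struct G H u hfl hfp V₀ hV₀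
  have hmem : ∀ x : G.left, x ∈ V ↔ x ∈ V₀ ∧ G.hom.base x ∈ U' := fun x => by
    change x ∈ (V : Set G.left) ↔ _
    rw [hU']
    rfl
  have hVfl : FlatLfp (V.ι ≫ u.left) := by
    rcases hP with hP | hP | hP
    · exact (hP _ _ _).1 hV
    · haveI : Smooth (V.ι ≫ u.left) := (hP _ _ _).1 hV
      exact ⟨inferInstance, inferInstance⟩
    · haveI : Etale (V.ι ≫ u.left) := (hP _ _ _).1 hV
      exact ⟨inferInstance, inferInstance⟩
  have hVS := flatLfp_struct G H u hfl hfp V hVfl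
  have hinv : ∀ g ∈ V, ι[G].left.base g ∈ V := by
    intro g hg
    rw [hmem] at hg ⊢
    refine ⟨inv_mem_maxOpen G H u FlatLfp V₀ hV₀ (fun W hW => le_flatLfpLocus G H u W hW) g hg.1, ?_⟩
    rw [← Scheme.Hom.comp_apply, Over.w ι[G]]
    exact hg.2
  have hmul : ∀ z : ↥(G ⊗ G).left, (fst G G).left.base z ∈ V → (snd G G).left.base z ∈ V →
      μ[G].left.base z ∈ V := by
    intro z h1 h2
    rw [hmem] at h1 h2 ⊢
    refine ⟨mul_mem_maxOpen_flatLfp G H u V₀ hV₀ hV₀S
      (fun W hW => le_flatLfpLocus G H u W hW) z h1.1 h2.1, ?_⟩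
    rw [← Scheme.Hom.comp_apply, Over.w μ[G], ← Over.w (fst G G), Scheme.Hom.comp_apply]
    exact h1.2
  refine ⟨?_, ?_, hinv, hmul⟩
  · have : G.hom.base '' (V : Set G.left) = Set.range (V.ι ≫ G.hom).base := by
      rw [Scheme.Hom.comp_base, TopCat.coe_comp, Set.range_comp, Scheme.Opens.range_ι]
    rw [this]
    haveI := hVS.1
    haveI := hVS.2
    exact (V.ι ≫ G.hom).isOpenMap.isOpen_range
  · intro g hg p hp
    have hz := hmul ((lift (𝟙 G) ι[G]).left.base g) (by
        change (fst G G).left.base ((lift (𝟙 G) ι[G]).left.base g) ∈ V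
        rw [← Scheme.Hom.comp_apply, ← Over.comp_left, lift_fst]
        exact hg) (by
        change (snd G G).left.base ((lift (𝟙 G) ι[G]).left.base g) ∈ V
        rw [← Scheme.Hom.comp_apply, ← Over.comp_left, lift_snd]
        exact hinv g hg)
    have h1 : μ[G].left.base ((lift (𝟙 G) ι[G]).left.base g) = η[G].left.base p := by
      rw [← Scheme.Hom.comp_apply, ← Over.comp_left, GrpObj.right_inv, Over.comp_left,
        Scheme.Hom.comp_apply]
      congr 1
      exact hp.symm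
    rw [h1] at hz
    exact hz

end Groth.Agent.Lib.Helper24.FibHom
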