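import Mathlib
import Groth.Agent.Lib.Helper24.NFT.DenseMul
import Groth.Agent.Lib.Helper24.NFT.Neutral
import Groth.Agent.Lib.Helper24.FibHom.Artin

/-!
# SGA3 VI_B 5.? : `(x, y) ↦ f x · f y` is an fppf covering
-/

set_option autoImplicit false
universe u

open CategoryTheory MonoidalCategory CartesianMonoidalCategory MonObj GrpObj AlgebraicGeometry Limits

namespace Groth.Agent.Lib.Helper24.FibHom

open Groth.Agent.Lib.Helper24.HomogSep Groth.Agent.Lib.Helper24.NFT
open Groth.Agent.Lib.Helper4.ActShear Groth.Agent.Lib.Helper4.ActShear2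

variable {S : Scheme.{u}} {G : Over S} [GrpObj G]

/-- an open containing the maximal points of a fibre is dense in the fibre -/
theorem dense_fibre_of_maximal_points (Ω : G.left.Opens) (s : S)
    (h : ∀ g : ↥(G.hom.base ⁻¹' {s}),
      closure {g} ∈ irreducibleComponents ↥(G.hom.base ⁻¹' {s}) → g.1 ∈ Ω) :
    Dense ((pullback.fst G.hom (gs s) ⁻¹ᵁ Ω : (fib G s).left.Opens) : Set (fib G s).left) := by
  let e : ↥(G.hom.fiber s) ≃ₜ ↥(G.hom.base ⁻¹' {s}) := G.hom.fiberHomeo s
  haveI : QuasiSober ↥(G.hom.base ⁻¹' {s}) := e.symm.isClosedEmbedding.quasiSober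
  have hd : Dense (Subtype.val ⁻¹' (Ω : Set G.left) : Set ↥(G.hom.base ⁻¹' {s})) := by
    rw [dense_iff_inter_open]
    rintro N hN ⟨z, hz⟩
    obtain ⟨ξ, hξz, hξ⟩ := exists_generic_specializes z
    refine ⟨ξ, hξz.mem_open hN hz, h ξ ?_⟩
    rw [hξ.def]
    exact irreducibleComponent_mem_irreducibleComponents z
  have := hd.preimage e.isOpenMap
  exact this

/-- two opens which are dense in every fibre multiply to the whole group -/
theorem mem_smulSet_of_fibrewise_dense
    (hG : ∀ s : S, LocallyOfFiniteType (G.hom.fiberToSpecResidueField s)) (Ω Ω' : G.left.Opens)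
    (hΩ : ∀ s : S, Dense ((pullback.fst G.hom (gs s) ⁻¹ᵁ Ω : (fib G s).left.Opens) :
      Set (fib G s).left))
    (hΩ' : ∀ s : S, Dense ((pullback.fst G.hom (gs s) ⁻¹ᵁ Ω' : (fib G s).left.Opens) :
      Set (fib G s).left)) (x : G.left) :
    x ∈ smulSet (selfAct G) (Ω : Set G.left) (Ω' : Set G.left) := by
  set s : S := G.hom.base x with hs
  let o : ↥(Spec (CommRingCat.of (resκ s))) := IsLocalRing.closedPoint (resκ s)
  have hgo : (gs s).base o = s := Scheme.fromSpecResidueField_apply _ _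
  obtain ⟨x', hx'1, -⟩ :=
    Scheme.Pullback.exists_preimage_pullback (f := G.hom) (g := gs s) x o (hs.symm.trans hgo.symm)
  haveI : LocallyOfFiniteType (fib G s).hom := hG s
  haveI : Nonempty ↥(fib G s).left := ⟨x'⟩
  have h1 := mem_smulSet_of_dense (fib G s) (pullback.fst G.hom (gs s) ⁻¹ᵁ Ω)
    (pullback.fst G.hom (gs s) ⁻¹ᵁ Ω') (hΩ s).nonempty (hΩ' s) x'
  have h1' : x' ∈ smulSet ((selfAct G).bc (gs s))
      ((pullback.fst G.hom (gs s) ⁻¹ᵁ Ω : (fib G s).left.Opens) : Set (fib G s).left)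
      ((pullback.fst G.hom (gs s) ⁻¹ᵁ Ω' : (fib G s).left.Opens) : Set (fib G s).left) := h1
  have h2 := image_smulSet_bc_subset (gs s) (selfAct G) _ _ ⟨x', h1', hx'1⟩
  refine smulSet_mono (selfAct G) ?_ ?_ h2
  · rintro _ ⟨c, hc, rfl⟩
    exact hc
  · rintro _ ⟨c, hc, rfl⟩
    exact hc

/-- **SGA3 VI_B 5.? (fppf covering by products)** -/
theorem main5394 (X : Over S) [LocallyOfFinitePresentation G.hom] [Flat G.hom]
    [LocallyOfFinitePresentation X.hom] (f : X ⟶ G)
    (hf : ∀ (s : S) (g : ↥(G.hom.base ⁻¹' {s})),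
      closure {g} ∈ irreducibleComponents ↥(G.hom.base ⁻¹' {s}) →
      ∃ x : X.left, f.left.base x = g.1 ∧ (f.left.stalkMap x).hom.Flat)
    (V : X.left.Opens) (hV : (V : Set X.left) = {x : X.left | (f.left.stalkMap x).hom.Flat}) :
    letI fV : Over.mk (V.ι ≫ X.hom) ⟶ G := Over.homMk (V.ι ≫ f.left)
      ((Category.assoc _ _ _).trans (congrArg (V.ι ≫ ·) (Over.w f)))
    Flat ((fV ⊗ₘ fV) ≫ μ[G]).left ∧ LocallyOfFinitePresentation ((fV ⊗ₘ fV) ≫ μ[G]).left ∧
      Surjective ((fV ⊗ₘ fV) ≫ μ[G]).left := by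
  set T : Over S := Over.mk (V.ι ≫ X.hom) with hTdef
  set fV : T ⟶ G := Over.homMk (V.ι ≫ f.left)
      ((Category.assoc _ _ _).trans (congrArg (V.ι ≫ ·) (Over.w f))) with hfVdef
  haveI hlfp : LocallyOfFinitePresentation f.left :=
    Groth.Agent.Lib.Helper4.CentralizerClosed.lfp_of_comp f.left G.hom
      (by rw [Over.w f]; infer_instance) inferInstance
  have hflatV : Flat (V.ι ≫ f.left) := by
    rw [Flat.iff_flat_stalkMap]
    intro z
    have hz : (f.left.stalkMap (V.ι.base z)).hom.Flat := by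
      have : (V.ι.base z) ∈ (V : Set X.left) := z.2
      rw [hV] at this
      exact this
    exact PtFlat.flat_stalkMap_comp _ f.left z ((Flat.iff_flat_stalkMap _).1 inferInstance z) hz
  have hfV1 : Flat fV.left := hflatV
  have hfV2 : LocallyOfFinitePresentation fV.left :=
    inferInstanceAs (LocallyOfFinitePresentation (V.ι ≫ f.left))
  have hTeq : T.hom = fV.left ≫ G.hom := (Over.w fV).symm
  have hT1 : Flat T.hom := by
    rw [hTeq]
    haveI := hfV1
    infer_instance
  have hT2 : LocallyOfFinitePresentation T.hom :=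
    inferInstanceAs (LocallyOfFinitePresentation (V.ι ≫ X.hom))
  have hΦ : (fV ⊗ₘ fV) ≫ μ[G] = (T ◁ fV) ≫ ((fV ⊗ₘ 𝟙 G) ≫ μ[G]) := by
    rw [← Category.assoc]
    congr 1
    rw [tensorHom_def' fV fV, tensorHom_id]
  have sq := Groth.Agent.Lib.Helper4.MaxOpenGrp.isPullback_whiskerLeft T T G fV
  have hA1 : Flat (T ◁ fV).left := MorphismProperty.of_isPullback (P := @Flat) sq.flip hfV1
  have hA2 : LocallyOfFinitePresentation (T ◁ fV).left :=
    MorphismProperty.of_isPullback (P := @LocallyOfFinitePresentation) sq.flip hfV2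
  have hB1 : Flat ((fV ⊗ₘ 𝟙 G) ≫ μ[G]).left := of_base_change_T (selfAct G) fV @Flat hT1
  have hB2 : LocallyOfFinitePresentation ((fV ⊗ₘ 𝟙 G) ≫ μ[G]).left :=
    of_base_change_T (selfAct G) fV @LocallyOfFinitePresentation hT2
  refine ⟨?_, ?_, ?_⟩
  · rw [hΦ, Over.comp_left]
    infer_instance
  · rw [hΦ, Over.comp_left]
    infer_instance
  · haveI := hfV1
    haveI := hfV2
    let Ω : G.left.Opens := ⟨Set.range fV.left.base, fV.left.isOpenMap.isOpen_range⟩
    have hG : ∀ s : S, LocallyOfFiniteType (G.hom.fiberToSpecResidueField s) := fun s =>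
      inferInstanceAs (LocallyOfFiniteType (pullback.snd G.hom (S.fromSpecResidueField s)))
    have hΩ : ∀ s : S, Dense ((pullback.fst G.hom (gs s) ⁻¹ᵁ Ω : (fib G s).left.Opens) :
        Set (fib G s).left) := fun s => by
      refine dense_fibre_of_maximal_points Ω s fun g hg => ?_
      obtain ⟨x, hx1, hx2⟩ := hf s g hg
      have hxV : x ∈ (V : Set X.left) := by rw [hV]; exact hx2
      exact ⟨⟨x, hxV⟩, hx1⟩
    constructor
    intro x
    obtain ⟨z, hz1, hz2, hz3⟩ := exists_of_mem_smulSet (selfAct G)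
      (mem_smulSet_of_fibrewise_dense hG Ω Ω hΩ hΩ x)
    have hz : z ∈ Set.range (fV ⊗ₘ fV).left.base := by
      rw [range_tensorHom_left]
      exact ⟨hz1, hz2⟩
    obtain ⟨z', rfl⟩ := hz
    refine ⟨z', ?_⟩
    rw [Over.comp_left, Scheme.Hom.comp_apply]
    exact hz3

end Groth.Agent.Lib.Helper24.FibHom
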