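import Mathlib
import Groth.Agent.Lib.Helper24.FibHom.Artin
import Groth.Agent.Lib.Helper4.GrpSchUnram

/-!
# SGA3 VI_B 2.5/2.6: a homomorphism has `P` iff its fibres have `P` iff its kernel has `P`
-/

set_option autoImplicit false
universe u

open CategoryTheory MonoidalCategory CartesianMonoidalCategory MonObj GrpObj AlgebraicGeometry Limits

namespace Groth.Agent.Lib.Helper24.FibHom

open Groth.Agent.Lib.Helper24.HomogSep Groth.Agent.Lib.Helper24.NFT Groth.Agent.Lib.Helper24.HomArt

variable {S : Scheme.{u}} {G H : Over S} [GrpObj G] [GrpObj H]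

/-- `u` has `P` iff all its fibres have `P` -/
theorem hom_iff_fibres (P : MorphismProperty Scheme.{u}) [IsZariskiLocalAtSource P]
    [P.IsStableUnderBaseChange] (u : G ⟶ H)
    (hmain : {x : G.left | ∃ W : G.left.Opens, x ∈ W ∧ P (W.ι ≫ u.left)} =
      G.hom.base ⁻¹' {s : S | P ((Over.pullback (S.fromSpecResidueField s)).map u).left}) :
    P u.left ↔ ∀ s : S, P ((Over.pullback (S.fromSpecResidueField s)).map u).left := by
  constructor
  · intro h s
    exact MorphismProperty.of_isPullback (P := P) (isPullback_pullback_map (gs s) u).flip h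
  · intro h
    refine of_forall_mem P u.left fun x => ?_
    have hx : x ∈ G.hom.base ⁻¹'
        {s : S | P ((Over.pullback (S.fromSpecResidueField s)).map u).left} := h _
    rw [← hmain] at hx
    exact hx

/-- the fibres of `u` all have `P` as soon as the kernel has `P` -/
theorem fibres_of_ker (P : MorphismProperty Scheme.{u}) [IsZariskiLocalAtSource P]
    [P.IsStableUnderBaseChange] [P.DescendsAlong (@Surjective ⊓ @Flat ⊓ @QuasiCompact)]
    (u : G ⟶ H) [IsMonHom u]
    (hmain : {x : G.left | ∃ W : G.left.Opens, x ∈ W ∧ P (W.ι ≫ u.left)} =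
      G.hom.base ⁻¹' {s : S | P ((Over.pullback (S.fromSpecResidueField s)).map u).left})
    (hFC : ∀ x : G.left, P (u.left.fiberToSpecResidueField (u.left.base x)) →
      ∃ W : G.left.Opens, x ∈ W ∧ P (W.ι ≫ u.left))
    {K : Over S} (i : K ⟶ G) (hK : AlgGrp.IsKernel i u) (hPK : P K.hom) (s : S) :
    P ((Over.pullback (S.fromSpecResidueField s)).map u).left := by
  have hKs : IsPullback i.left (toUnit K).left u.left η[H].left := hK.map (Over.forget S)
  have htu : (toUnit K).left = K.hom := by
    have := Over.w (toUnit K)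
    rw [← this]
    exact (Category.comp_id _).symm
  rw [htu] at hKs
  have sqf := isPullback_fiberToSpecResidueField_of_isPullback hKs s
  have h1 : P (K.hom.fiberToSpecResidueField s) := P.pullback_snd _ _ hPK
  have h2 : P (u.left.fiberToSpecResidueField (η[H].left.base s)) := by
    refine MorphismProperty.of_isPullback_of_descendsAlong (P := P)
      (Q := @Surjective ⊓ @Flat ⊓ @QuasiCompact) sqf.flip ⟨⟨?_, ?_⟩, ?_⟩ h1
    · infer_instance
    · infer_instance
    · infer_instance
  have hx : u.left.base ((unitSec G).base s) = η[H].left.base s := by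
    change u.left.base (η[G].left.base s) = _
    rw [← Scheme.Hom.comp_apply, ← Over.comp_left, IsMonHom.one_hom]
  rw [← hx] at h2
  have h3 : (unitSec G).base s ∈ {x : G.left | ∃ W : G.left.Opens, x ∈ W ∧ P (W.ι ≫ u.left)} :=
    hFC _ h2
  rw [hmain, Set.mem_preimage, ← Scheme.Hom.comp_apply, unitSec_hom] at h3
  exact h3

/-- the kernel has `P` when `u` has -/
theorem ker_of_hom (P : MorphismProperty Scheme.{u}) [P.IsStableUnderBaseChange]
    (u : G ⟶ H) {K : Over S} (i : K ⟶ G) (hK : AlgGrp.IsKernel i u) (h : P u.left) : P K.hom := by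
  have hKs : IsPullback i.left (toUnit K).left u.left η[H].left := hK.map (Over.forget S)
  have htu : (toUnit K).left = K.hom := by
    have := Over.w (toUnit K)
    rw [← this]
    exact (Category.comp_id _).symm
  rw [htu] at hKs
  exact MorphismProperty.of_isPullback (P := P) hKs h

/-- **SGA3 VI_B 2.6 (locally quasi-finite homomorphisms)** -/
theorem tfae_lqf (u : G ⟶ H) [IsMonHom u] [LocallyOfFiniteType u.left]
    (hG : ∀ s : S, LocallyOfFiniteType (G.hom.fiberToSpecResidueField s))
    {K : Over S} (i : K ⟶ G) (hK : AlgGrp.IsKernel i u) :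
    (LocallyQuasiFinite u.left ↔
      ∀ s : S, LocallyQuasiFinite ((Over.pullback (S.fromSpecResidueField s)).map u).left) ∧
    (LocallyQuasiFinite u.left ↔ LocallyQuasiFinite K.hom) ∧
    (LocallyQuasiFinite u.left ↔ ∀ s : S, DiscreteTopology ↥(K.hom.base ⁻¹' {s})) := by
  have hFC : ∀ x : G.left, LqfLft (u.left.fiberToSpecResidueField (u.left.base x)) →
      ∃ W : G.left.Opens, x ∈ W ∧ LqfLft (W.ι ≫ u.left) := fun x h => by
    obtain ⟨W, hxW, hW⟩ := fc_lqf u.left x _ rfl h.1
    exact ⟨W, hxW, hW, inferInstance⟩
  have key := main LqfLft u hG (fun _ _ x _ h => hFC x h)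
  have e0 : LqfLft u.left ↔ LocallyQuasiFinite u.left := ⟨fun h => h.1, fun h => ⟨h, inferInstance⟩⟩
  have e1 : ∀ s : S, LqfLft ((Over.pullback (S.fromSpecResidueField s)).map u).left ↔
      LocallyQuasiFinite ((Over.pullback (S.fromSpecResidueField s)).map u).left := fun s =>
    ⟨fun h => h.1, fun h => ⟨h, MorphismProperty.of_isPullback (P := @LocallyOfFiniteType)
      (isPullback_pullback_map (gs s) u).flip inferInstance⟩⟩
  have hKlft : LocallyOfFiniteType K.hom := ker_of_hom @LocallyOfFiniteType u i hK inferInstance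
  have A : LocallyQuasiFinite u.left ↔
      ∀ s : S, LocallyQuasiFinite ((Over.pullback (S.fromSpecResidueField s)).map u).left := by
    rw [← e0, hom_iff_fibres LqfLft u key.2]
    exact forall_congr' e1
  have B : LocallyQuasiFinite u.left ↔ LocallyQuasiFinite K.hom := by
    constructor
    · intro h
      exact ker_of_hom @LocallyQuasiFinite u i hK h
    · intro h
      rw [A]
      intro s
      exact (e1 s).1 (fibres_of_ker LqfLft u key.2 hFC i hK ⟨h, hKlft⟩ s)
  refine ⟨A, B, ?_⟩
  rw [B, locallyQuasiFinite_iff_isDiscrete_preimage_singleton]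
  exact forall_congr' fun s => isDiscrete_iff_discreteTopology

/-- **SGA3 VI_B 2.6 (unramified homomorphisms)** -/
theorem tfae_unramified (u : G ⟶ H) [IsMonHom u] [LocallyOfFinitePresentation u.left]
    (hG : ∀ s : S, LocallyOfFiniteType (G.hom.fiberToSpecResidueField s))
    {K : Over S} [GrpObj K] (i : K ⟶ G) (hK : AlgGrp.IsKernel i u) :
    (FormallyUnramified u.left ↔
      ∀ s : S, FormallyUnramified ((Over.pullback (S.fromSpecResidueField s)).map u).left) ∧
    (FormallyUnramified u.left ↔ FormallyUnramified K.hom) ∧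
    (FormallyUnramified u.left ↔ IsOpenImmersion η[K].left) := by
  haveI : LocallyOfFiniteType u.left := inferInstance
  have hFC : ∀ x : G.left, FormallyUnramified (u.left.fiberToSpecResidueField (u.left.base x)) →
      ∃ W : G.left.Opens, x ∈ W ∧ FormallyUnramified (W.ι ≫ u.left) := fun x h =>
    fc_unramified u.left x _ rfl h
  have key := main_unramified u hG
  have hKlft : LocallyOfFiniteType K.hom := ker_of_hom @LocallyOfFiniteType u i hK inferInstance
  have A := hom_iff_fibres @FormallyUnramified u key.2
  have B : FormallyUnramified u.left ↔ FormallyUnramified K.hom := by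
    constructor
    · intro h
      exact ker_of_hom @FormallyUnramified u i hK h
    · intro h
      rw [A]
      intro s
      exact fibres_of_ker @FormallyUnramified u key.2 hFC i hK h s
  refine ⟨A, B, ?_⟩
  rw [B, ← Groth.Agent.Lib.Helper4.GrpSchUnram.diag_iff K]
  constructor
  · intro h
    infer_instance
  · intro h
    infer_instance

end Groth.Agent.Lib.Helper24.FibHom
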